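import Cfsg.Agent.Lib.ThreeDeg.Solvable
import Cfsg.Agent.Lib.CharDeep.RelMGroup
import Cfsg.Agent.Lib.CharDeep.AGroupMonomial
import Cfsg.Agent.Lib.Char.Virtual
import Cfsg.Agent.Lib.Blk83.Weight

/-!
# At most three degrees: derived length at most three
-/

set_option autoImplicit false
set_option maxHeartbeats 1000000

open scoped ComplexConjugate Classical
open CfsgLib

namespace CfsgLib.ThreeDeg

universe u

variable {G : Type u} [Group G] [Finite G]

/-- Taketa's step. -/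
theorem taketa_step [Fintype G] (n : ℕ) (H : Subgroup G) [Fintype H] (lam : H →* ℂˣ)
    (h : ∀ φ : Cfsg.IrrCharacter G, Cfsg.charDegree (φ : G → ℂ) < H.index →
      ∀ x ∈ derivedSeries G n, (φ : G → ℂ) x = (φ : G → ℂ) 1) :
    ∀ x ∈ derivedSeries G (n + 1),
      Cfsg.indFun H (fun h => (lam h : ℂ)) x = Cfsg.indFun H (fun h => (lam h : ℂ)) 1 := by
  intro x hx
  have hsub : ∀ z ∈ derivedSeries G n, z ∈ H := by
    intro z hz
    set P := Cfsg.indFun H (fun _ : H => (1 : ℂ)) with hP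
    have hπ : Cfsg.IsCharacter G P :=
      CfsgLib.Char.IsCharacter.indFun H CfsgLib.Char.isCharacter_one
    obtain ⟨m, hm, hdeg⟩ := CharTools.exists_degree_combination hπ
    have hP1 : Cfsg.charDegree P = H.index := by
      refine Nat.cast_injective (R := ℂ) ?_
      rw [CharTools.degree_cast hπ, hP, CfsgLib.Char.indFun_apply_one, mul_one]
    have hm1 : m CfsgLib.Char.principalIrr = 1 := by
      have h1 := hm CfsgLib.Char.principalIrr
      rw [hP, CfsgLib.Char.classInner_indFun H (fun _ => (1 : ℂ)) _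
        (CfsgLib.Char.IsIrrCharacter.isClassFunction CfsgLib.Char.principalIrr.2)] at h1
      have h2 : Cfsg.classInner (fun _ : H => (1 : ℂ))
          (fun h : H => (CfsgLib.Char.principalIrr : Cfsg.IrrCharacter G).1 h) = 1 :=
        CfsgLib.Char.classInner_irr_self CfsgLib.Char.isIrrCharacter_principal
      exact Nat.cast_injective (R := ℂ) (h1.symm.trans (h2.trans Nat.cast_one.symm))
    have hker : ∀ φ : Cfsg.IrrCharacter G, m φ ≠ 0 → (φ : G → ℂ) z = (φ : G → ℂ) 1 := by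
      intro φ hφ
      by_cases hp : φ = CfsgLib.Char.principalIrr
      · subst hp; rfl
      · refine h φ ?_ z hz
        rw [hP1] at hdeg
        have h4 := Finset.sum_le_sum_of_subset
          (f := fun φ : Cfsg.IrrCharacter G => m φ * Cfsg.charDegree (φ : G → ℂ))
          (Finset.subset_univ {CfsgLib.Char.principalIrr, φ})
        rw [Finset.sum_pair (Ne.symm hp), hm1, one_mul, ← hdeg,
          show Cfsg.charDegree ((CfsgLib.Char.principalIrr : Cfsg.IrrCharacter G) : G → ℂ) = 1 from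
            CharTools.charDegree_principal] at h4
        have h5 : Cfsg.charDegree (φ : G → ℂ) ≤ m φ * Cfsg.charDegree (φ : G → ℂ) :=
          Nat.le_mul_of_pos_left _ (Nat.pos_of_ne_zero hφ)
        omega
    have hz1 : P z = P 1 := by
      rw [CfsgLib.Char.IsCharacter.eq_sum_classInner hπ]
      simp only [Finset.sum_apply, Pi.smul_apply, smul_eq_mul]
      refine Finset.sum_congr rfl fun φ _ => ?_
      by_cases hφ : m φ = 0
      · simp [hm, hφ]
      · rw [hker φ hφ]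
    by_contra hzH
    have hcount : ∀ w : G, Cfsg.extendByZero H (fun _ : H => (1 : ℂ)) w =
        ((if w ∈ H then 1 else 0 : ℕ) : ℂ) := by
      intro w
      split_ifs with hw
      · rw [CfsgLib.Char.extendByZero_apply_mem _ _ hw]; simp
      · rw [CfsgLib.Char.extendByZero_of_notMem _ _ hw]; simp
    have hH : (Nat.card H : ℂ)⁻¹ ≠ 0 := inv_ne_zero (Nat.cast_ne_zero.mpr Nat.card_pos.ne')
    have hz2 : ∑ y : G, (if y⁻¹ * z * y ∈ H then 1 else 0 : ℕ) = ∑ _y : G, (1 : ℕ) := by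
      simp only [hP, CfsgLib.Char.indFun_apply, mul_one, inv_mul_cancel, hcount,
        H.one_mem, if_true] at hz1
      have := mul_left_cancel₀ hH hz1
      exact_mod_cast this
    have hlt : ∑ y : G, (if y⁻¹ * z * y ∈ H then 1 else 0 : ℕ) < ∑ _y : G, (1 : ℕ) :=
      Finset.sum_lt_sum (fun y _ => by split_ifs <;> omega)
        ⟨1, Finset.mem_univ _, by simp [hzH]⟩
    omega
  have hlam : derivedSeries G (n + 1) ≤ lam.ker.map H.subtype := by
    rw [derivedSeries_succ, Subgroup.commutator_le]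
    intro a ha b hb
    refine ⟨(⟨a, hsub a ha⟩ : H) * ⟨b, hsub b hb⟩ * (⟨a, hsub a ha⟩ : H)⁻¹ *
      (⟨b, hsub b hb⟩ : H)⁻¹, ?_, ?_⟩
    · rw [SetLike.mem_coe, MonoidHom.mem_ker, map_mul, map_mul, map_mul, map_inv, map_inv,
        mul_comm (lam _) (lam _), mul_inv_cancel_right, mul_inv_cancel]
    · simp [commutatorElement_def]
  rw [CfsgLib.Char.indFun_apply, CfsgLib.Char.indFun_apply]
  refine congrArg _ (Finset.sum_congr rfl fun y _ => ?_)
  obtain ⟨h, hh, he⟩ := hlam ((derivedSeries_normal G (n + 1)).conj_mem x hx y⁻¹)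
  simp only [inv_inv, Subgroup.coe_subtype] at he
  rw [← he, CfsgLib.Char.extendByZero_coe, MonoidHom.mem_ker.mp hh, mul_one, inv_mul_cancel,
    CfsgLib.Char.extendByZero_apply_mem _ _ H.one_mem]
  simp [show (⟨1, H.one_mem⟩ : H) = 1 from rfl]

/-- A minimal normal subgroup of a finite `p`-group has order `p`. -/
theorem card_minimal_normal {P : Type u} [Group P] [Finite P] {p : ℕ} [hp : Fact p.Prime]
    (hP : IsPGroup p P) (K : Subgroup P) [K.Normal] (hK : K ≠ ⊥)
    (hmin : ∀ L : Subgroup P, L.Normal → L ≤ K → L = ⊥ ∨ L = K) : Nat.card K = p := by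
  haveI := hP.isNilpotent
  have hcomm : ⁅K, (⊤ : Subgroup P)⁆ = ⊥ := by
    rcases hmin ⁅K, ⊤⁆ inferInstance (Subgroup.commutator_le_left _ _) with h | h
    · exact h
    · exfalso
      obtain ⟨n, hn⟩ := Subgroup.nilpotent_iff_lowerCentralSeries.1 (hP.isNilpotent)
      have hall : ∀ k, K ≤ (⊤ : Subgroup P).lowerCentralSeries k := fun k => by
        induction k with
        | zero => exact le_top
        | succ k ih =>
          rw [← h]
          exact Subgroup.commutator_mono ih le_rfl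
      exact hK (le_bot_iff.1 (hn ▸ hall n))
  obtain ⟨j, hj⟩ := IsPGroup.iff_card.1 (hP.to_subgroup K)
  have hj0 : j ≠ 0 := fun h => hK (Subgroup.card_eq_one.1 (by rw [hj, h, pow_zero]))
  obtain ⟨x, hx⟩ := exists_prime_orderOf_dvd_card' (G := K) p (hj ▸ dvd_pow_self p hj0)
  have hxc : ∀ g : P, g * x = (x : P) * g := fun g =>
    (Subgroup.mem_centralizer_iff.1 ((Subgroup.commutator_eq_bot_iff_le_centralizer.1 hcomm) x.2) g
      (Subgroup.mem_top g))
  have hn : (Subgroup.zpowers (x : P)).Normal := ⟨fun y hy g => by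
    obtain ⟨k, rfl⟩ := hy
    show g * (x : P) ^ k * g⁻¹ ∈ _
    rw [((show Commute g (x : P) from hxc g).zpow_right k).eq, mul_inv_cancel_right]
    exact zpow_mem (Subgroup.mem_zpowers _) k⟩
  rcases hmin _ hn (Subgroup.zpowers_le.2 x.2) with h | h
  · rw [Subgroup.zpowers_eq_bot, ← orderOf_eq_one_iff, Subgroup.orderOf_coe, hx] at h
    exact absurd h hp.out.ne_one
  · rw [← h, Nat.card_zpowers, Subgroup.orderOf_coe, hx]

/-- An abelian normal subgroup with `p`-group quotient gives monomiality. -/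
theorem exists_monomial [Fintype G] {p : ℕ} [Fact p.Prime] (M : Subgroup G) [M.Normal]
    (hM : ∀ x ∈ M, ∀ y ∈ M, x * y = y * x) {k : ℕ} (hk : M.index = p ^ k)
    (χ : Cfsg.IrrCharacter G) :
    ∃ (U : Subgroup G) (l : U →* ℂˣ), Cfsg.indFun U (fun x => (l x : ℂ)) = (χ : G → ℂ) := by
  have hQ : IsPGroup p (G ⧸ M) := IsPGroup.of_card (n := k) (by rw [← Subgroup.index_eq_card, hk])
  haveI := hQ.isNilpotent
  haveI : Group.IsSolvable G := isSolvable_of_normal M
    (Group.isSolvable_of_comm fun x y => Subtype.ext (hM x x.2 y y.2)) inferInstance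
  suffices hchief : ∀ (H K L : Subgroup G), M ≤ L → L < K → K ≤ H →
      (∀ h ∈ H, ∀ k ∈ K, h * k * h⁻¹ ∈ K) → (∀ h ∈ H, ∀ l ∈ L, h * l * h⁻¹ ∈ L) →
      (∀ M' : Subgroup G, L ≤ M' → M' ≤ K → (∀ h ∈ H, ∀ m ∈ M', h * m * h⁻¹ ∈ M') → M' = L ∨ M' = K) →
      ¬ IsSquare (L.relIndex K) by
    obtain ⟨S, hNS, ψ, hψ, hind, hN⟩ := CharDeep.RelM.exists_induced M inferInstance hchief χ.2
    obtain ⟨U, l, hl⟩ := CharDeep.AMono.exists_linear M (fun r _ P a _ b _ => Subtype.ext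
      (hM a a.2 b b.2)) S hNS hψ hN
    exact ⟨U, l, hl.trans hind⟩
  intro H K L hML hLK hKH hKn hLn hmin hsq
  haveI : (L.subgroupOf H).Normal := ⟨fun a ha g => hLn g g.2 a ha⟩
  haveI : (K.subgroupOf H).Normal := ⟨fun a ha g => hKn g g.2 a ha⟩
  have hPg : IsPGroup p (H ⧸ L.subgroupOf H) := by
    intro q
    obtain ⟨x, rfl⟩ := QuotientGroup.mk_surjective q
    obtain ⟨j, hj⟩ := hQ (QuotientGroup.mk (x : G))
    refine ⟨j, ?_⟩
    rw [← QuotientGroup.mk_pow, QuotientGroup.eq_one_iff, Subgroup.mem_subgroupOf, Subgroup.coe_pow]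
    rw [← QuotientGroup.mk_pow, QuotientGroup.eq_one_iff] at hj
    exact hML hj
  set π := QuotientGroup.mk' (L.subgroupOf H) with hπdef
  set K' := (K.subgroupOf H).map π with hK'
  haveI : K'.Normal := (inferInstance : (K.subgroupOf H).Normal).map π (QuotientGroup.mk'_surjective _)
  have hcard : Nat.card K' = L.relIndex K := by
    have h1 := Subgroup.relIndex_map_map (f := π) (H := L.subgroupOf H) (K := K.subgroupOf H)
    rw [(Subgroup.map_eq_bot_iff (f := π) (L.subgroupOf H)).2 (by rw [QuotientGroup.ker_mk']),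
      Subgroup.relIndex_bot_left, sup_eq_left.2 (by rw [QuotientGroup.ker_mk']),
      sup_eq_left.2 (by rw [QuotientGroup.ker_mk']; exact Subgroup.comap_mono hLK.le),
      Subgroup.relIndex_subgroupOf hKH] at h1
    exact h1
  have hK'ne : K' ≠ ⊥ := by
    rw [hK', Ne, Subgroup.map_eq_bot_iff, QuotientGroup.ker_mk']
    intro hle
    exact not_le_of_gt hLK fun x hx => hle (show (⟨x, hKH hx⟩ : H) ∈ K.subgroupOf H from hx)
  rw [← hcard, card_minimal_normal hPg K' hK'ne ?_] at hsq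
  · exact (Fact.out : p.Prime).not_isSquare hsq
  intro J hJ hJK
  have hM' := hmin ((J.comap π).map H.subtype) ?_ ?_ ?_
  · rcases hM' with h | h
    · refine Or.inl ?_
      rw [eq_bot_iff]
      intro y hy
      obtain ⟨x, rfl⟩ := QuotientGroup.mk'_surjective (L.subgroupOf H) y
      rw [Subgroup.mem_bot]
      exact (QuotientGroup.eq_one_iff x).2 (show (x : G) ∈ L from h ▸ ⟨x, hy, rfl⟩)
    · refine Or.inr (le_antisymm hJK ?_)
      rintro _ ⟨x, hx, rfl⟩
      obtain ⟨y, hy, hyx⟩ := h.symm ▸ (hx : (x : G) ∈ K)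
      rw [Subtype.ext hyx] at hy
      exact hy
  · intro x hx
    refine ⟨⟨x, (hLK.le.trans hKH) hx⟩, ?_, rfl⟩
    show π ⟨x, _⟩ ∈ J
    rw [show π ⟨x, (hLK.le.trans hKH) hx⟩ = 1 from (QuotientGroup.eq_one_iff _).2 hx]
    exact J.one_mem
  · rintro _ ⟨x, hx, rfl⟩
    obtain ⟨y, hy, hyx⟩ := hJK hx
    have h1 : (y : H)⁻¹ * x ∈ L.subgroupOf H := QuotientGroup.eq.1 hyx
    have h2 : (x : G) = (y : G) * ((y : H)⁻¹ * x : H) := by simp
    show (x : G) ∈ K
    rw [h2]
    exact K.mul_mem hy (hLK.le h1)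
  · rintro h hh _ ⟨x, hx, rfl⟩
    exact ⟨⟨h, hh⟩ * x * ⟨h, hh⟩⁻¹, (hJ.comap π).conj_mem x hx ⟨h, hh⟩, rfl⟩

theorem eq_bot_of_trivial [Fintype G] (N : Subgroup G)
    (h : ∀ χ : Cfsg.IrrCharacter G, ∀ x ∈ N, (χ : G → ℂ) x = (χ : G → ℂ) 1) : N = ⊥ := by
  rw [Subgroup.eq_bot_iff_forall]
  intro x hx
  exact isConj_one_left.mp (CfsgLib.Char.isConj_of_forall_eq fun χ hχ => h ⟨χ, hχ⟩ x hx)

theorem derived_three_of_abelian [Fintype G] {p : ℕ} [Fact p.Prime] (M : Subgroup G) [M.Normal]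
    (hM : ∀ x ∈ M, ∀ y ∈ M, x * y = y * x) {k : ℕ} (hk : M.index = p ^ k) {a b : ℕ}
    (hcd : ∀ χ : Cfsg.IrrCharacter G, Cfsg.charDegree (χ : G → ℂ) = 1 ∨ Cfsg.charDegree (χ : G → ℂ) = a ∨
      Cfsg.charDegree (χ : G → ℂ) = b) (hab : a ≤ b) : derivedSeries G 3 = ⊥ := by
  have hmono : ∀ n : ℕ, ∀ χ : Cfsg.IrrCharacter G,
      (∀ φ : Cfsg.IrrCharacter G, Cfsg.charDegree (φ : G → ℂ) < Cfsg.charDegree (χ : G → ℂ) →
        ∀ x ∈ derivedSeries G n, (φ : G → ℂ) x = (φ : G → ℂ) 1) →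
      ∀ x ∈ derivedSeries G (n + 1), (χ : G → ℂ) x = (χ : G → ℂ) 1 := by
    intro n χ h
    obtain ⟨U, l, hl⟩ := exists_monomial M hM hk χ
    haveI := Fintype.ofFinite U
    rw [← hl] at h ⊢
    refine taketa_step n U l fun φ hφ => h φ (hφ.trans_le (le_of_eq ?_))
    refine Nat.cast_injective (R := ℂ) ?_
    rw [CharTools.degree_cast (hl ▸ CfsgLib.Char.IsIrrCharacter.isCharacter χ.2 : Cfsg.IsCharacter G _),
      CfsgLib.Char.indFun_apply_one, map_one, Units.val_one, mul_one]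
  have hlow : ∀ n m : ℕ, n ≤ m → derivedSeries G m ≤ derivedSeries G n := fun n m h => derivedSeries_antitone G h
  have h1 : ∀ χ : Cfsg.IrrCharacter G, Cfsg.charDegree (χ : G → ℂ) ≤ 1 →
      ∀ x ∈ derivedSeries G 1, (χ : G → ℂ) x = (χ : G → ℂ) 1 := fun χ hχ =>
    hmono 0 χ fun φ hφ => by
      have := CharTools.irr_degree_pos φ
      omega
  have h2 : ∀ χ : Cfsg.IrrCharacter G, Cfsg.charDegree (χ : G → ℂ) ≤ a →
      ∀ x ∈ derivedSeries G 2, (χ : G → ℂ) x = (χ : G → ℂ) 1 := fun χ hχ =>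
    hmono 1 χ fun φ hφ => h1 φ (by rcases hcd φ with h | h | h <;> omega)
  refine eq_bot_of_trivial _ fun χ => hmono 2 χ fun φ hφ => ?_
  by_cases h : Cfsg.charDegree (φ : G → ℂ) ≤ a
  · exact h2 φ h
  · intro x hx
    rcases hcd φ with e | e | e
    · exact h1 φ e.le x (hlow 1 2 (by norm_num) hx)
    all_goals
      exfalso
      have := CharTools.irr_degree_pos φ
      rcases hcd χ with e' | e' | e' <;> omega

theorem derived_three_of_abelian_normal (M : Subgroup G) (hM : ∀ x ∈ M, ∀ y ∈ M, x * y = y * x)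
    (h : derivedSeries G 2 ≤ M) : derivedSeries G 3 = ⊥ := by
  rw [derivedSeries_succ, Subgroup.commutator_eq_bot_iff_le_centralizer]
  exact fun x hx => Subgroup.mem_centralizer_iff.2 fun y hy => (hM x (h hx) y (h hy)).symm

/-- The `p`-quotient case. -/
theorem derived_three_pQuotient {p : ℕ} (hp : p.Prime) (W : Subgroup G) [W.Normal]
    (hW : ¬ commutator G ≤ W) {k : ℕ} (hk : W.index = p ^ k) {a b : ℕ}
    (hcd : ∀ χ : Cfsg.IrrCharacter G, Cfsg.charDegree (χ : G → ℂ) = 1 ∨ Cfsg.charDegree (χ : G → ℂ) = a ∨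
      Cfsg.charDegree (χ : G → ℂ) = b) : derivedSeries G 3 = ⊥ := by
  haveI := Fintype.ofFinite G
  haveI : Fact p.Prime := ⟨hp⟩
  obtain ⟨φ, hφ1, hφW, hφdvd⟩ := exists_nonlinear_quotient W hW
  obtain ⟨i, -, hi⟩ := (Nat.dvd_prime_pow hp).1 (hk ▸ hφdvd)
  have hpφ : p ∣ Cfsg.charDegree (φ : G → ℂ) := hi ▸ dvd_pow_self p fun h0 => hφ1 (by rw [hi, h0, pow_zero])
  obtain ⟨c, hc⟩ : ∃ c, ∀ χ : Cfsg.IrrCharacter G, Cfsg.charDegree (χ : G → ℂ) = 1 ∨
      Cfsg.charDegree (χ : G → ℂ) = Cfsg.charDegree (φ : G → ℂ) ∨ Cfsg.charDegree (χ : G → ℂ) = c := by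
    rcases hcd φ with h | h | h
    · exact absurd h hφ1
    · exact ⟨b, h ▸ hcd⟩
    · exact ⟨a, fun χ => (hcd χ).imp id fun h' => h ▸ h'.symm⟩
  -- `p` divides every nonlinear degree
  have hdeg : ∀ χ : Cfsg.IrrCharacter G, Cfsg.charDegree (χ : G → ℂ) ≠ 1 → p ∣ Cfsg.charDegree (χ : G → ℂ) := by
    intro χ hχ
    by_contra hn
    have hirr := restrict_of_coprime W χ (hk ▸ ((hp.coprime_iff_not_dvd.2 hn).symm.pow_right k))
    have hprod := DegBound.irr_mul_of_restrict W χ φ hirr hφW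
    have h1 := degree_mul hprod
    have hχpos := CharTools.irr_degree_pos χ
    have hφpos := CharTools.irr_degree_pos φ
    have hne : Cfsg.charDegree (χ : G → ℂ) ≠ Cfsg.charDegree (φ : G → ℂ) := fun h => hn (h ▸ hpφ)
    have h2 := hc ⟨_, hprod⟩
    simp only [h1] at h2
    have hlt1 : Cfsg.charDegree (χ : G → ℂ) < Cfsg.charDegree (χ : G → ℂ) * Cfsg.charDegree (φ : G → ℂ) :=
      lt_mul_of_one_lt_right hχpos (by omega)
    have hlt2 : Cfsg.charDegree (φ : G → ℂ) < Cfsg.charDegree (χ : G → ℂ) * Cfsg.charDegree (φ : G → ℂ) :=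
      lt_mul_of_one_lt_left hφpos (by omega)
    rcases hc χ with e1 | e1 | e1 <;> omega
  obtain ⟨M, hMn, -, ⟨j, hj⟩, hM⟩ := exists_complement hp hdeg
  haveI := hMn
  have hMdeg : ∀ θ : Cfsg.IrrCharacter M, Cfsg.charDegree (θ : M → ℂ) ≠ 1 →
      Cfsg.charDegree (θ : M → ℂ) = ordCompl[p] c := by
    intro θ hθ1
    obtain ⟨hθp, χ, l, hχ⟩ := hM θ
    have hθ : Cfsg.charDegree (θ : M → ℂ) = ordCompl[p] (Cfsg.charDegree (χ : G → ℂ)) := by
      rw [hχ, Nat.ordCompl_mul, Nat.ordCompl_self_pow hp, mul_one,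
        Nat.factorization_eq_zero_of_not_dvd hθp, pow_zero, Nat.div_one]
    rcases hc χ with h | h | h <;> rw [h] at hθ
    · exact absurd (hθ.trans (by simp)) hθ1
    · refine absurd ?_ hθ1
      rw [hθ, hi, Nat.ordCompl_self_pow hp]
    · exact hθ
  by_cases hMab : ∀ θ : Cfsg.IrrCharacter M, Cfsg.charDegree (θ : M → ℂ) = 1
  · have hMc : ∀ x ∈ M, ∀ y ∈ M, x * y = y * x := fun x hx y hy =>
      congrArg Subtype.val (TwoDeg.comm_of_degree_one hMab ⟨x, hx⟩ ⟨y, hy⟩)
    rcases le_total a b with h | h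
    · exact derived_three_of_abelian M hMc hj hcd h
    · exact derived_three_of_abelian M hMc hj (fun χ => (hcd χ).imp id Or.symm) h
  push Not at hMab
  obtain ⟨θ₀, hθ₀⟩ := hMab
  have hc1 : ordCompl[p] c ≠ 1 := fun h => hθ₀ ((hMdeg θ₀ hθ₀).trans h)
  set M' := (commutator M).map M.subtype with hM'
  haveI : M'.Normal := CfsgLib.Solvable.normal_map_subtype_of_characteristic M _
  refine derived_three_of_abelian_normal M' ?_ ?_
  · rintro _ ⟨x, hx, rfl⟩ _ ⟨y, hy, rfl⟩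
    exact congrArg Subtype.val (two_degrees _ hMdeg x hx y hy)
  -- the quotient by `M'` has two degrees
  have htwo : ∀ η : Cfsg.IrrCharacter (G ⧸ M'), Cfsg.charDegree (η : G ⧸ M' → ℂ) ≠ 1 →
      Cfsg.charDegree (η : G ⧸ M' → ℂ) = Cfsg.charDegree (φ : G → ℂ) := by
    intro η hη
    haveI := Fintype.ofFinite M
    set χ : Cfsg.IrrCharacter G := ⟨_, CharTools.isIrrCharacter_comp (QuotientGroup.mk' M')
      (QuotientGroup.mk'_surjective M') η.2⟩ with hχdef
    have hχd : Cfsg.charDegree (χ : G → ℂ) = Cfsg.charDegree (η : G ⧸ M' → ℂ) := DegBound.inflate_deg _ _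
    obtain ⟨θ, hθ⟩ := CharTools.exists_constituent
      (CfsgLib.Char.IsCharacter.restrict (CfsgLib.Char.IsIrrCharacter.isCharacter χ.2) M)
      (fun h0 => CharTools.irr_apply_one_ne_zero χ (congrFun h0 (1 : M)))
    have htriv : ∀ z ∈ commutator M, (θ : M → ℂ) z = (θ : M → ℂ) 1 :=
      CfsgLib.Blk83.apply_eq_one_of_constituent (commutator M) (fun g z hz => by
        show (η : G ⧸ M' → ℂ) (QuotientGroup.mk' M' ((g * z : M) : G)) = (η : G ⧸ M' → ℂ) (QuotientGroup.mk' M' (g : G))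
        rw [Subgroup.coe_mul, map_mul,
          show QuotientGroup.mk' M' (z : G) = 1 from (QuotientGroup.eq_one_iff _).2 ⟨z, hz, rfl⟩, mul_one])
        θ.2 hθ
    have hθ1 : Cfsg.charDegree (θ : M → ℂ) = 1 := DegBound.degree_one_of_kernel θ (commutator M) htriv le_rfl
    obtain ⟨l, hl, hldvd⟩ := over_ratio M χ θ hθ
    obtain ⟨l', -, hl'⟩ := (Nat.dvd_prime_pow hp).1 (hj ▸ hldvd)
    rw [hθ1, one_mul, hl'] at hl
    rcases hc χ with h | h | h
    · exact absurd (hχd.symm.trans h) hη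
    · exact hχd.symm.trans h
    · exfalso
      refine hc1 ?_
      rw [← h, hl, Nat.ordCompl_self_pow hp]
  have hQ : derivedSeries (G ⧸ M') 2 = ⊥ := by
    rw [derivedSeries_succ, derivedSeries_one, Subgroup.commutator_eq_bot_iff_le_centralizer]
    exact fun x hx => Subgroup.mem_centralizer_iff.2 fun y hy => (two_degrees _ htwo x hx y hy).symm
  rw [← map_derivedSeries_eq (QuotientGroup.mk'_surjective M'), Subgroup.map_eq_bot_iff,
    QuotientGroup.ker_mk'] at hQ
  exact hQ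

/-- The intersection of the complements. -/
theorem exists_complements (H : Subgroup G) [H.Normal] (hGH : commutator G ≤ H) (S : Finset ℕ)
    (hS : ∀ r ∈ S, r.Prime ∧ ∀ χ : Cfsg.IrrCharacter G, Cfsg.charDegree (χ : G → ℂ) ≠ 1 →
      r ∣ Cfsg.charDegree (χ : G → ℂ))
    (hno : ∀ r : ℕ, r.Prime → ∀ W : Subgroup G, W.Normal → ∀ k, W.index = r ^ k → commutator G ≤ W) :
    ∃ K : Subgroup G, K.Normal ∧ commutator G ≤ K ∧ K ≤ H ∧ (∀ r ∈ S, ¬ r ∣ Nat.card K) ∧
      ∀ r : ℕ, r.Prime → r ∣ K.relIndex H → r ∈ S := by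
  induction S using Finset.induction_on with
  | empty => exact ⟨H, inferInstance, hGH, le_rfl, by simp, fun r hr h => by
      rw [Subgroup.relIndex_self] at h; exact absurd h hr.not_dvd_one⟩
  | insert r S hrS ih =>
    obtain ⟨K, hKn, hGK, hKH, hK1, hK2⟩ := ih fun x hx => hS x (Finset.mem_insert_of_mem hx)
    obtain ⟨hr, hdeg⟩ := hS r (Finset.mem_insert_self r S)
    obtain ⟨R, hRn, hcop, ⟨k, hk⟩, -⟩ := exists_complement hr hdeg
    haveI := hKn
    haveI := hRn
    refine ⟨K ⊓ R, inferInstance, le_inf hGK (hno r hr R hRn k hk), inf_le_left.trans hKH, fun x hx h => ?_,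
      fun x hx h => ?_⟩
    · rcases Finset.mem_insert.1 hx with rfl | hxS
      · exact hr.ne_one (Nat.eq_one_of_dvd_coprimes hcop (h.trans (Subgroup.card_dvd_of_le inf_le_right)) dvd_rfl)
      · exact hK1 x hxS (h.trans (Subgroup.card_dvd_of_le inf_le_left))
    · rw [← Subgroup.relIndex_mul_relIndex _ _ _ inf_le_left hKH, Subgroup.inf_relIndex_left] at h
      rcases hx.dvd_mul.1 h with h | h
      · have h1 := h.trans (Subgroup.relIndex_dvd_index_of_normal R K)
        rw [hk] at h1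
        exact Finset.mem_insert.2 (Or.inl ((Nat.prime_dvd_prime_iff_eq hx hr).1 (hx.dvd_of_dvd_pow h1)))
      · exact Finset.mem_insert_of_mem (hK2 x hx h)

/-- **Isaacs 12.15, second part.** -/
theorem derived_three {a b : ℕ}
    (hcd : ∀ χ : Cfsg.IrrCharacter G, Cfsg.charDegree (χ : G → ℂ) = 1 ∨ Cfsg.charDegree (χ : G → ℂ) = a ∨
      Cfsg.charDegree (χ : G → ℂ) = b) : derivedSeries G 3 = ⊥ := by
  by_cases hG : commutator G ≤ ⊥
  · rw [eq_bot_iff]
    refine le_trans ((derivedSeries_antitone G (show 1 ≤ 3 by norm_num)).trans (le_of_eq (derivedSeries_one G))) hG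
  by_cases hX : ∃ r : ℕ, r.Prime ∧ ∃ W : Subgroup G, W.Normal ∧ ¬ commutator G ≤ W ∧ ∃ k, W.index = r ^ k
  · obtain ⟨r, hr, W, hWn, hW, k, hk⟩ := hX
    haveI := hWn
    exact derived_three_pQuotient hr W hW hk hcd
  push Not at hX
  haveI := isSolvable_of_three (Nat.card G) G le_rfl a b hcd
  have hno : ∀ r : ℕ, r.Prime → ∀ W : Subgroup G, W.Normal → ∀ k, W.index = r ^ k → commutator G ≤ W :=
    fun r hr W hWn k hk => by_contra fun h => hX r hr W hWn h k hk
  rcases dichotomy (⊥ : Subgroup G) inferInstance hG with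
    ⟨r, hr, W, hWn, hW, k, hk⟩ | ⟨H, q, hHn, hq, hGH, hf1, hqf, ⟨χf, hχf⟩, hH⟩
  · exact absurd (hno r hr W hWn k hk) hW
  haveI := hHn
  obtain ⟨c, hc⟩ : ∃ c, ∀ χ : Cfsg.IrrCharacter G, Cfsg.charDegree (χ : G → ℂ) = 1 ∨
      Cfsg.charDegree (χ : G → ℂ) = H.index ∨ Cfsg.charDegree (χ : G → ℂ) = c := by
    rcases hcd χf with h | h | h <;> rw [hχf] at h
    · exact absurd h hf1
    · exact ⟨b, h ▸ hcd⟩
    · exact ⟨a, fun χ => (hcd χ).imp id fun h' => h ▸ h'.symm⟩
  set S := (Nat.gcd H.index c).primeFactors with hS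
  have hSfac : ∀ r ∈ S, r.Prime ∧ ∀ χ : Cfsg.IrrCharacter G, Cfsg.charDegree (χ : G → ℂ) ≠ 1 →
      r ∣ Cfsg.charDegree (χ : G → ℂ) := fun r hr => by
    refine ⟨Nat.prime_of_mem_primeFactors hr, fun χ hχ => ?_⟩
    have h1 := Nat.dvd_of_mem_primeFactors hr
    rcases hc χ with h | h | h
    · exact absurd h hχ
    · exact h ▸ h1.trans (Nat.gcd_dvd_left _ _)
    · exact h ▸ h1.trans (Nat.gcd_dvd_right _ _)
  obtain ⟨K, hKn, hGK, hKH, hK1, hK2⟩ := exists_complements H hGH S hSfac hno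
  haveI := hKn
  -- nonlinear degrees of `H`
  have hHdeg : ∀ ψ : Cfsg.IrrCharacter H, Cfsg.charDegree (ψ : H → ℂ) ≠ 1 →
      ∀ r : ℕ, r.Prime → r ∉ S → (Cfsg.charDegree (ψ : H → ℂ)).factorization r =
        if q ∣ c then c.factorization r else c.factorization r - H.index.factorization r := by
    intro ψ hψ r hr hrS
    have hψpos : Cfsg.charDegree (ψ : H → ℂ) ≠ 0 := (CharTools.irr_degree_pos ψ).ne'
    by_cases hqψ : q ∣ Cfsg.charDegree (ψ : H → ℂ)
    · obtain ⟨χ, j, hχ, hj⟩ := exists_over_ratio H ψ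
      rcases hc χ with h | h | h <;> rw [hχ] at h
      · exact absurd (Nat.eq_one_of_mul_eq_one_right h) hψ
      · exact absurd (hqψ.trans (Dvd.intro _ h)) hqf
      · rw [if_pos (hqψ.trans (Dvd.intro _ h))]
        have hj0 : j ≠ 0 := fun h0 => (CharTools.irr_degree_pos χ).ne' (by rw [hχ, h0, mul_zero])
        have hjr : j.factorization r = 0 := Nat.factorization_eq_zero_of_not_dvd fun hrj => hrS
          (Nat.mem_primeFactors.2 ⟨hr, Nat.dvd_gcd (hrj.trans hj) (hrj.trans (Dvd.intro_left _ h)),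
            Nat.gcd_ne_zero_left Subgroup.index_ne_zero_of_finite⟩)
        rw [← h, Nat.factorization_mul hψpos hj0, Finsupp.add_apply, hjr, add_zero]
    · obtain ⟨χ, hχ⟩ := hH ψ hqψ
      rcases hc χ with h | h | h <;> rw [hχ] at h
      · exact absurd (Nat.eq_one_of_mul_eq_one_left h) hψ
      · refine absurd (Nat.eq_of_mul_eq_mul_left (n := H.index) (Nat.pos_of_ne_zero Subgroup.index_ne_zero_of_finite) ?_) hψ
        rw [h, mul_one]
      · rw [← h, if_neg (fun hd => (hq.dvd_mul.1 hd).elim hqf hqψ),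
          Nat.factorization_mul Subgroup.index_ne_zero_of_finite hψpos, Finsupp.add_apply, Nat.add_sub_cancel_left]
  -- degrees of `K`
  set K₁ := K.subgroupOf H with hK₁
  haveI : K₁.Normal := inferInstance
  have hKdeg : ∀ θ : Cfsg.IrrCharacter K₁, Cfsg.charDegree (θ : K₁ → ℂ) ≠ 1 → ∀ r : ℕ, r.Prime →
      (Cfsg.charDegree (θ : K₁ → ℂ)).factorization r =
        if r ∈ S then 0 else if q ∣ c then c.factorization r else c.factorization r - H.index.factorization r := by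
    intro θ hθ r hr
    split_ifs with hrS hqc
    · refine Nat.factorization_eq_zero_of_not_dvd fun h => hK1 r hrS ?_
      rw [← Nat.card_congr (Subgroup.subgroupOfEquivOfLe hKH).toEquiv]
      exact h.trans (CharTools.degree_dvd_card θ)
    all_goals
      obtain ⟨ψ, j, hψ, hj⟩ := exists_over_ratio K₁ θ
      have hψ1 : Cfsg.charDegree (ψ : H → ℂ) ≠ 1 := fun h => hθ (Nat.eq_one_of_mul_eq_one_right (hψ.symm.trans h))
      have h1 := hHdeg ψ hψ1 r hr hrS
      have hj0 : j ≠ 0 := fun h0 => (CharTools.irr_degree_pos ψ).ne' (by rw [hψ, h0, mul_zero])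
      have hjr : j.factorization r = 0 := Nat.factorization_eq_zero_of_not_dvd fun hrj =>
        hrS (hK2 r hr (hrj.trans hj))
      rw [hψ, Nat.factorization_mul (CharTools.irr_degree_pos θ).ne' hj0, Finsupp.add_apply, hjr, add_zero] at h1
      rw [h1]
    · rw [if_pos hqc]
    · rw [if_neg hqc]
  by_cases hall : ∀ θ : Cfsg.IrrCharacter K₁, Cfsg.charDegree (θ : K₁ → ℂ) = 1
  · refine derived_three_of_abelian_normal K (fun x hx y hy => ?_)
      ((derivedSeries_antitone G (show 1 ≤ 2 by norm_num)).trans (by rw [derivedSeries_one]; exact hGK))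
    exact congrArg (fun z : K₁ => ((z : H) : G)) (TwoDeg.comm_of_degree_one hall ⟨⟨x, hKH hx⟩, hx⟩ ⟨⟨y, hKH hy⟩, hy⟩)
  push Not at hall
  obtain ⟨θ₀, hθ₀⟩ := hall
  have htwo : ∀ θ : Cfsg.IrrCharacter K₁, Cfsg.charDegree (θ : K₁ → ℂ) ≠ 1 →
      Cfsg.charDegree (θ : K₁ → ℂ) = Cfsg.charDegree (θ₀ : K₁ → ℂ) := by
    intro θ hθ
    refine Nat.eq_of_factorization_eq (CharTools.irr_degree_pos θ).ne' (CharTools.irr_degree_pos θ₀).ne' fun r => ?_
    by_cases hr : r.Prime
    · rw [hKdeg θ hθ r hr, hKdeg θ₀ hθ₀ r hr]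
    · rw [Nat.factorization_eq_zero_of_not_prime _ hr, Nat.factorization_eq_zero_of_not_prime _ hr]
  refine derived_three_of_abelian_normal ((commutator K₁).map (H.subtype.comp K₁.subtype)) ?_ ?_
  · rintro _ ⟨x, hx, rfl⟩ _ ⟨y, hy, rfl⟩
    exact congrArg (fun z : K₁ => ((z : H) : G)) (two_degrees _ htwo x hx y hy)
  · rw [derivedSeries_succ, derivedSeries_one, commutator_def K₁, Subgroup.map_commutator]
    have hle : commutator G ≤ (⊤ : Subgroup K₁).map (H.subtype.comp K₁.subtype) := fun x hx =>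
      ⟨⟨⟨x, hKH (hGK hx)⟩, hGK hx⟩, Subgroup.mem_top _, rfl⟩
    exact Subgroup.commutator_mono hle hle

end CfsgLib.ThreeDeg
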