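import Cfsg.Agent.Lib.ThreeDeg.Tools
import Cfsg.Agent.Lib.CharDeep.LinearExt

/-!
# A solvable nonabelian quotient gives a `p`-quotient or a Frobenius section
-/

set_option autoImplicit false
set_option maxHeartbeats 1000000

open scoped Classical
open CfsgLib

namespace CfsgLib.ThreeDeg

universe u

section Monolith

variable {Q : Type u} [Group Q] [Finite Q]
  (hmin : ∀ L : Subgroup Q, L.Normal → L ≠ ⊥ → commutator Q ≤ L)

omit [Finite Q] in
include hmin in
theorem comm_of_solvable (hs : Group.IsSolvable Q) (hne : commutator Q ≠ ⊥) :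
    ∀ a ∈ commutator Q, ∀ b ∈ commutator Q, a * b = b * a := by
  by_contra hcon
  have hbot : (⁅commutator Q, commutator Q⁆ : Subgroup Q) ≠ ⊥ := fun h => hcon fun a ha b hb => by
    rw [Subgroup.commutator_eq_bot_iff_le_centralizer] at h
    exact (Subgroup.mem_centralizer_iff.1 (h ha) b hb).symm
  have heq : ⁅commutator Q, commutator Q⁆ = commutator Q :=
    le_antisymm (Subgroup.commutator_le_left _ _) (hmin _ inferInstance hbot)
  obtain ⟨n, hn⟩ := (Group.isSolvable_def Q).1 hs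
  have hall : ∀ k, commutator Q ≤ derivedSeries Q k := fun k => by
    induction k with
    | zero => exact le_top
    | succ k ih =>
      rw [derivedSeries_succ, ← heq]
      exact Subgroup.commutator_mono ih ih
  exact hne (le_bot_iff.1 (hn ▸ hall n))

include hmin in
/-- A central monolith gives a prime power order. -/
theorem isPGroup_of_central (hne : commutator Q ≠ ⊥) (hcen : commutator Q ≤ Subgroup.center Q) :
    ∃ p : ℕ, p.Prime ∧ IsPGroup p Q := by
  obtain ⟨q, hq, hqE⟩ := Nat.exists_prime_and_dvd (n := Nat.card (commutator Q)) (by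
    haveI := (Subgroup.nontrivial_iff_ne_bot _).2 hne
    exact (Finite.one_lt_card).ne')
  haveI : Fact q.Prime := ⟨hq⟩
  obtain ⟨e, he⟩ := exists_prime_orderOf_dvd_card' q hqE
  have hzpow : ∀ x : Q, x ∈ Subgroup.center Q → (Subgroup.zpowers x).Normal := fun x hx => ⟨fun y hy g => by
    obtain ⟨k, rfl⟩ := hy
    have h1 := Subgroup.mem_center_iff.1 (zpow_mem hx k) g
    rw [h1, mul_inv_cancel_right]
    exact zpow_mem (Subgroup.mem_zpowers x) k⟩
  have hE : commutator Q ≤ Subgroup.zpowers (e : Q) := hmin _ (hzpow _ (hcen e.2)) fun h => by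
    rw [Subgroup.zpowers_eq_bot] at h
    rw [← orderOf_eq_one_iff, Subgroup.orderOf_coe, he] at h
    exact hq.ne_one h
  have hpow : ∀ z ∈ commutator Q, z ^ q = 1 := fun z hz => by
    obtain ⟨k, rfl⟩ := hE hz
    show ((e : Q) ^ k) ^ q = 1
    rw [← zpow_natCast, ← zpow_mul, mul_comm, zpow_mul, zpow_natCast, ← he, ← Subgroup.orderOf_coe,
      pow_orderOf_eq_one, one_zpow]
  refine ⟨q, hq, IsPGroup.of_card (n := (Nat.card Q).factorization q) ?_⟩
  by_contra hcard
  obtain ⟨r, hr, hrdvd⟩ := Nat.exists_prime_and_dvd (n := ordCompl[q] (Nat.card Q)) fun h => hcard (by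
    conv_lhs => rw [← Nat.ordProj_mul_ordCompl_eq_self (Nat.card Q) q, h, mul_one])
  have hrq : r ≠ q := fun h => Nat.not_dvd_ordCompl hq Nat.card_pos.ne' (h ▸ hrdvd)
  haveI : Fact r.Prime := ⟨hr⟩
  obtain ⟨g, hg⟩ := exists_prime_orderOf_dvd_card' r (hrdvd.trans (Nat.ordCompl_dvd _ _))
  have hgc : g ∈ Subgroup.center Q := Subgroup.mem_center_iff.2 fun h => by
    set z := h * g * h⁻¹ * g⁻¹ with hz
    have hzE : z ∈ commutator Q := by
      have h1 := Subgroup.commutator_mem_commutator (Subgroup.mem_top h) (Subgroup.mem_top g)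
      rw [← commutator_def] at h1
      simpa [commutatorElement_def, hz] using h1
    have hzg : Commute z g := (Subgroup.mem_center_iff.1 (hcen hzE) g).symm
    have h2 : (z * g) ^ r = 1 := by
      rw [hz, inv_mul_cancel_right, conj_pow, ← hg, pow_orderOf_eq_one, mul_one, mul_inv_cancel]
    rw [hzg.mul_pow, ← hg, pow_orderOf_eq_one, mul_one, hg] at h2
    have hz1 : z = 1 := orderOf_eq_one_iff.1 (Nat.eq_one_of_dvd_coprimes
      ((Nat.coprime_primes hr hq).2 hrq) (orderOf_dvd_of_pow_eq_one h2)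
      (orderOf_dvd_of_pow_eq_one (hpow z hzE)))
    rw [hz, mul_inv_eq_one, mul_inv_eq_iff_eq_mul] at hz1
    exact hz1
  have hgE := hmin _ (hzpow g hgc) fun h => by
    rw [Subgroup.zpowers_eq_bot, ← orderOf_eq_one_iff, hg] at h
    exact hr.ne_one h
  have h3 : orderOf (e : Q) ∣ Nat.card (Subgroup.zpowers g) := by
    rw [← Nat.card_zpowers]
    exact Subgroup.card_dvd_of_le (Subgroup.zpowers_le.2 (hgE e.2))
  rw [Nat.card_zpowers, Subgroup.orderOf_coe, he, hg, Nat.prime_dvd_prime_iff_eq hq hr] at h3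
  exact hrq h3.symm

include hmin in
/-- A noncentral commutative monolith: the numerical facts. -/
theorem frobenius_facts (hab : ∀ a ∈ commutator Q, ∀ b ∈ commutator Q, a * b = b * a)
    (hnc : ¬ commutator Q ≤ Subgroup.center Q) :
    ∃ q : ℕ, q.Prime ∧ (∀ x ∈ commutator Q, x ^ q = 1) ∧ ¬ q ∣ (commutator Q).index ∧
      (commutator Q).index < Nat.card (commutator Q) ∧ (commutator Q).index ≠ 1 ∧
      ∃ f : commutator Q →* ℂˣ, f ≠ 1 := by
  have hne : commutator Q ≠ ⊥ := fun h => hnc (h ▸ bot_le)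
  have hEn : (commutator Q).Normal := inferInstance
  obtain ⟨q, hq, hqE⟩ := Nat.exists_prime_and_dvd (n := Nat.card (commutator Q)) (by
    haveI := (Subgroup.nontrivial_iff_ne_bot _).2 hne
    exact (Finite.one_lt_card).ne')
  haveI : Fact q.Prime := ⟨hq⟩
  obtain ⟨e, he⟩ := exists_prime_orderOf_dvd_card' q hqE
  obtain ⟨x₀, hx₀, hx₀1⟩ := (Subgroup.bot_or_exists_ne_one (commutator Q)).resolve_left hne
  obtain ⟨f, hf⟩ : ∃ f : commutator Q →* ℂˣ, f ≠ 1 := by
    by_contra h
    push Not at h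
    refine hx₀1 (congrArg Subtype.val (TwoDeg.eq_of_forall_hom_eq
      (fun x y => Subtype.ext (hab x x.2 y y.2)) (x := (⟨x₀, hx₀⟩ : commutator Q)) (y := 1) fun f => ?_))
    rw [h f, MonoidHom.one_apply, MonoidHom.one_apply]
  have hexp : ∀ x ∈ commutator Q, x ^ q = 1 := by
    let L : Subgroup Q :=
      { carrier := {x | x ∈ commutator Q ∧ x ^ q = 1}
        one_mem' := ⟨Subgroup.one_mem _, one_pow _⟩
        mul_mem' := fun {a b} ha hb => ⟨Subgroup.mul_mem _ ha.1 hb.1, by
          rw [(show Commute a b from hab a ha.1 b hb.1).mul_pow, ha.2, hb.2, one_mul]⟩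
        inv_mem' := fun {a} ha => ⟨Subgroup.inv_mem _ ha.1, by rw [inv_pow, ha.2, inv_one]⟩ }
    have hLn : L.Normal := ⟨fun x hx g => ⟨hEn.conj_mem x hx.1 g, by
      rw [conj_pow, hx.2, mul_one, mul_inv_cancel]⟩⟩
    intro x hx
    refine (hmin L hLn (fun h => ?_) hx).2
    have : (e : Q) ∈ L := ⟨e.2, by rw [← he, ← Subgroup.orderOf_coe, pow_orderOf_eq_one]⟩
    rw [h, Subgroup.mem_bot, ← orderOf_eq_one_iff, Subgroup.orderOf_coe, he] at this
    exact hq.ne_one this
  have hmemE : ∀ a b : Q, a * b * a⁻¹ * b⁻¹ ∈ commutator Q := fun a b => by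
    have h := Subgroup.commutator_mem_commutator (Subgroup.mem_top a) (Subgroup.mem_top b)
    rw [← commutator_def] at h
    simpa [commutatorElement_def] using h
  have hsemi : ∀ x ∈ commutator Q, x ≠ 1 → Subgroup.centralizer ({x} : Set Q) = commutator Q := by
    intro x hx hx1
    refine le_antisymm (fun g hg => ?_) (fun g hg => Subgroup.mem_centralizer_singleton_iff.2 (hab g hg x hx))
    set F := commutator Q ⊓ Subgroup.centralizer ({g} : Set Q) with hF
    have hFn : F.Normal := ⟨fun y hy h => by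
      obtain ⟨hyE, hyg⟩ := Subgroup.mem_inf.1 hy
      have hy' := hEn.conj_mem y hyE h
      refine Subgroup.mem_inf.2 ⟨hy', Subgroup.mem_centralizer_singleton_iff.2 ?_⟩
      have h1 := Subgroup.mem_centralizer_singleton_iff.1 hyg
      have h2 := hab _ (hmemE h g) _ hy'
      have h4 : (h * y * h⁻¹) * ((h * g * h⁻¹ * g⁻¹) * g) = ((h * g * h⁻¹ * g⁻¹) * g) * (h * y * h⁻¹) := by
        calc (h * y * h⁻¹) * ((h * g * h⁻¹ * g⁻¹) * g) = h * (y * g) * h⁻¹ := by group
          _ = h * (g * y) * h⁻¹ := by rw [h1]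
          _ = _ := by group
      rw [← mul_assoc, ← h2] at h4
      exact mul_left_cancel ((mul_assoc _ _ _).symm.trans (h4.trans (mul_assoc _ _ _)))⟩
    have hFb : F ≠ ⊥ := fun h => hx1 (Subgroup.mem_bot.1 (h ▸ (Subgroup.mem_inf.2
      ⟨hx, Subgroup.mem_centralizer_singleton_iff.2 (Subgroup.mem_centralizer_singleton_iff.1 hg).symm⟩ : x ∈ F)))
    refine DegBound.stab_le_of_monolith hmin hab hnc f hf g fun z => congrArg f (Subtype.ext ?_)
    show g * z * g⁻¹ = z
    rw [← Subgroup.mem_centralizer_singleton_iff.1 (Subgroup.mem_inf.1 (hmin F hFn hFb z.2)).2,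
      mul_inv_cancel_right]
  have hdvd : (commutator Q).index ∣ Nat.card (commutator Q) - 1 := by
    haveI := Fintype.ofFinite Q
    haveI := Fintype.ofFinite (ConjClasses Q)
    set s := Finset.univ.filter fun x : Q => x ∈ commutator Q ∧ x ≠ 1 with hs
    have hcard : s.card + 1 = Nat.card (commutator Q) := by
      rw [show s = (Finset.univ.filter fun x : Q => x ∈ commutator Q).erase 1 by
          ext x; simp [hs, and_comm], Finset.card_erase_add_one (by simp),
        ← Fintype.card_subtype, ← Nat.card_eq_fintype_card]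
    rw [← hcard, Nat.add_sub_cancel, Finset.card_eq_sum_card_image ConjClasses.mk s]
    refine Finset.dvd_sum fun C hC => ?_
    obtain ⟨x, hx, rfl⟩ := Finset.mem_image.1 hC
    obtain ⟨hxE, hx1⟩ := (Finset.mem_filter.1 hx).2
    rw [← hsemi x hxE hx1, CfsgLib.Char.index_centralizer_eq_card_isConj, Nat.card_eq_fintype_card,
      Fintype.card_subtype]
    refine dvd_of_eq (congrArg Finset.card ?_)
    ext y
    simp only [Finset.mem_filter, Finset.mem_univ, true_and, hs]
    constructor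
    · intro h
      obtain ⟨c, rfl⟩ := isConj_iff.1 h
      exact ⟨⟨hEn.conj_mem x hxE c, fun h' => hx1 (by rwa [conj_eq_one_iff] at h')⟩,
        ConjClasses.mk_eq_mk_iff_isConj.2 h.symm⟩
    · exact fun h => (ConjClasses.mk_eq_mk_iff_isConj.1 h.2).symm
  have h2 : 2 ≤ Nat.card (commutator Q) :=
    hq.two_le.trans (Nat.le_of_dvd Nat.card_pos hqE)
  refine ⟨q, hq, hexp, fun h => ?_, ?_, fun h => ?_, f, hf⟩
  · have h4 := Nat.dvd_sub hqE (h.trans hdvd)
    rw [show Nat.card (commutator Q) - (Nat.card (commutator Q) - 1) = 1 by omega] at h4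
    exact hq.not_dvd_one h4
  · have := Nat.le_of_dvd (by omega) hdvd
    omega
  · rw [Subgroup.index_eq_one] at h
    exact hnc fun z hz => Subgroup.mem_center_iff.2 fun x => hab x (h ▸ Subgroup.mem_top x) z hz

end Monolith

variable {G : Type u} [Group G] [Finite G]

/-- The linear twist with no new stabilizer, and the dichotomy. -/
theorem dichotomy (L : Subgroup G) [L.Normal] (hs : Group.IsSolvable (G ⧸ L)) (hL : ¬ commutator G ≤ L) :
    (∃ p : ℕ, p.Prime ∧ ∃ W : Subgroup G, W.Normal ∧ ¬ commutator G ≤ W ∧ ∃ k, W.index = p ^ k) ∨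
    ∃ (H : Subgroup G) (q : ℕ), H.Normal ∧ q.Prime ∧ commutator G ≤ H ∧ H.index ≠ 1 ∧ ¬ q ∣ H.index ∧
      (∃ χ : Cfsg.IrrCharacter G, Cfsg.charDegree (χ : G → ℂ) = H.index) ∧
      ∀ ψ : Cfsg.IrrCharacter H, ¬ q ∣ Cfsg.charDegree (ψ : H → ℂ) →
        ∃ χ : Cfsg.IrrCharacter G, Cfsg.charDegree (χ : G → ℂ) = H.index * Cfsg.charDegree (ψ : H → ℂ) := by
  haveI := Fintype.ofFinite G
  obtain ⟨W, hLW, ⟨hWn, hW⟩, hWmax⟩ := (Set.toFinite
    {K : Subgroup G | K.Normal ∧ ¬ commutator G ≤ K}).exists_le_maximal (a := L) ⟨inferInstance, hL⟩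
  haveI := hWn
  set π := QuotientGroup.mk' W with hπdef
  have hπ : Function.Surjective π := QuotientGroup.mk'_surjective W
  have hmap : commutator (G ⧸ W) = (commutator G).map π := by
    rw [commutator_def, commutator_def, Subgroup.map_commutator, Subgroup.map_top_of_surjective π hπ]
  have hne : commutator (G ⧸ W) ≠ ⊥ := by
    rw [hmap, Ne, Subgroup.map_eq_bot_iff, QuotientGroup.ker_mk']
    exact hW
  have hmin : ∀ K : Subgroup (G ⧸ W), K.Normal → K ≠ ⊥ → commutator (G ⧸ W) ≤ K := by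
    intro K hK hKne
    rw [hmap, Subgroup.map_le_iff_le_comap]
    by_contra hn
    have hWK : W ≤ K.comap π := fun w hw => by
      rw [Subgroup.mem_comap, show π w = 1 from (QuotientGroup.eq_one_iff w).2 hw]
      exact K.one_mem
    have heq : K.comap π = W := le_antisymm (hWmax ⟨hK.comap π, hn⟩ hWK) hWK
    refine hKne ?_
    rw [eq_bot_iff]
    intro x hx
    obtain ⟨g, rfl⟩ := hπ x
    rw [Subgroup.mem_bot]
    exact (QuotientGroup.eq_one_iff g).2 (heq ▸ hx)
  have hsQ : Group.IsSolvable (G ⧸ W) := by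
    haveI := hs
    refine Group.isSolvable_of_surjective (f := QuotientGroup.map L W (MonoidHom.id G) hLW) fun x => ?_
    obtain ⟨g, rfl⟩ := hπ x
    exact ⟨QuotientGroup.mk g, rfl⟩
  have hab := comm_of_solvable hmin hsQ hne
  by_cases hcen : commutator (G ⧸ W) ≤ Subgroup.center (G ⧸ W)
  · obtain ⟨p, hp, hP⟩ := isPGroup_of_central hmin hne hcen
    haveI : Fact p.Prime := ⟨hp⟩
    exact Or.inl ⟨p, hp, W, hWn, hW, IsPGroup.iff_card.1 hP⟩
  obtain ⟨q, hq, hexp, hqf, hflt, hf1, f₀, hf₀⟩ := frobenius_facts hmin hab hcen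
  set H := (commutator (G ⧸ W)).comap π with hH
  haveI := Fintype.ofFinite H
  have hidx : H.index = (commutator (G ⧸ W)).index := Subgroup.index_comap_of_surjective _ hπ
  let up : (commutator (G ⧸ W) →* ℂˣ) → (H →* ℂˣ) := fun f => f.comp (π.subgroupComap _)
  have hup : ∀ f (x : H), up f x = f ⟨π x, x.2⟩ := fun f x => rfl
  -- the key step: induce from the stabilizer `H`
  have hind : ∀ ψ : H → ℂ, Cfsg.IsIrrCharacter H ψ → (∀ g, CharTwist.conjFun H ψ g = ψ → g ∈ H) →
      ∃ χ : Cfsg.IrrCharacter G, (χ : G → ℂ) 1 = (H.index : ℂ) * ψ 1 := by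
    intro ψ hψ hst
    refine ⟨⟨_, Clifford.isIrrCharacter_indFun H H le_rfl hψ
      (fun g => ⟨fun hg => CharTwist.mem_inertia.1 (CharTwist.le_inertia H
        (CfsgLib.Char.IsIrrCharacter.isClassFunction hψ) hg), hst g⟩) hψ ?_⟩, ?_⟩
    · rw [show (fun n : H => ψ ⟨n, le_rfl (a := H) n.2⟩) = ψ from rfl, CfsgLib.Char.classInner_irr_self hψ]
      exact one_ne_zero
    · exact CfsgLib.Char.indFun_apply_one H ψ
  have hsemi : ∀ f : commutator (G ⧸ W) →* ℂˣ, f ≠ 1 → ∀ g : G, (∀ x : H,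
      f ⟨π (g * x * g⁻¹), (inferInstance : H.Normal).conj_mem x x.2 g⟩ = f ⟨π x, x.2⟩) → g ∈ H := by
    intro f hf g h
    refine DegBound.stab_le_of_monolith hmin hab hcen f hf (π g) fun e => ?_
    obtain ⟨x, hx⟩ := hπ (e : G ⧸ W)
    have h1 := h ⟨x, by rw [hH, Subgroup.mem_comap, hx]; exact e.2⟩
    convert h1 using 2
    · exact Subtype.ext (by simp [← hx, map_mul, map_inv])
    · exact Subtype.ext hx.symm
  refine Or.inr ⟨H, q, inferInstance, hq, ?_, hidx ▸ hf1, hidx ▸ hqf, ?_, fun ψ hψq => ?_⟩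
  · rw [hH, hmap]
    exact Subgroup.le_comap_map _ _
  · obtain ⟨χ, hχ⟩ := hind (fun x => (up f₀ x : ℂ)) (CfsgLib.Char.isIrrCharacter_linear _)
      fun g hg => hsemi f₀ hf₀ g fun x => Units.ext (congrFun hg x)
    refine ⟨χ, Nat.cast_injective (R := ℂ) ?_⟩
    rw [CharTools.irr_degree_cast, hχ, map_one, Units.val_one, mul_one]
  -- twist `ψ` so that its stabilizer is `H`
  set n := Cfsg.charDegree (ψ : H → ℂ) with hn
  suffices hgood : ∃ f : commutator (G ⧸ W) →* ℂˣ,
      ∀ g, CharTwist.conjFun H (fun x => (up f x : ℂ) * (ψ : H → ℂ) x) g =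
        (fun x => (up f x : ℂ) * (ψ : H → ℂ) x) → g ∈ H by
    obtain ⟨f, hf⟩ := hgood
    obtain ⟨χ, hχ⟩ := hind _ (CfsgLib.Char.IsIrrCharacter.linear_mul ψ.2 (up f)) hf
    refine ⟨χ, Nat.cast_injective (R := ℂ) ?_⟩
    rw [CharTools.irr_degree_cast, hχ, Nat.cast_mul, CharTools.irr_degree_cast, map_one, Units.val_one,
      one_mul]
  by_contra hcon
  push Not at hcon
  choose g hg hgH using hcon
  obtain ⟨δ, hδ⟩ := CharDeep.Extend.exists_det_hom H (ψ : H → ℂ) ψ.2
  -- invariance of determinants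
  have hdet : ∀ f, ∀ x : H,
      up f ⟨g f * x * (g f)⁻¹, (inferInstance : H.Normal).conj_mem x x.2 (g f)⟩ ^ n *
        δ ⟨g f * x * (g f)⁻¹, (inferInstance : H.Normal).conj_mem x x.2 (g f)⟩ = up f x ^ n * δ x := by
    intro f x
    have hirr := CfsgLib.Char.IsIrrCharacter.linear_mul ψ.2 (up f)
    have h1 : Cfsg.detChar (CharTwist.conjFun H (fun x => (up f x : ℂ) * (ψ : H → ℂ) x) (g f)) x =
        Cfsg.detChar (fun x => (up f x : ℂ) * (ψ : H → ℂ) x)
          ⟨g f * x * (g f)⁻¹, (inferInstance : H.Normal).conj_mem x x.2 (g f)⟩ := by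
      obtain ⟨d, ρ, hρ, he⟩ := hirr
      rw [← he]
      let σ : Representation ℂ H (Fin d → ℂ) := ρ.comp (MulAut.conjNormal (H := H) (g f)).toMonoidHom
      haveI : σ.IsIrreducible :=
        CharTwist.irreducible_comp_surjective ρ _ (MulAut.conjNormal (H := H) (g f)).surjective
      rw [show CharTwist.conjFun H ρ.character (g f) = σ.character from rfl, CharDeep.Cover.detChar_eq,
        CharDeep.Cover.detChar_eq]
      rfl
    rw [hg f, CharDeep.Extend.detChar_twist ψ.2 (up f) n (CharTools.irr_degree_cast ψ).symm] at h1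
    simp only [hδ] at h1
    refine Units.ext ?_
    push_cast
    exact h1.symm
  let F : (commutator (G ⧸ W) →* ℂˣ) → G ⧸ H := fun f => QuotientGroup.mk' H (g f)
  have hinj : Function.Injective F := by
    intro f f' h
    have hh : (g f)⁻¹ * g f' ∈ H := QuotientGroup.eq.1 h
    have hprop : ∀ x : H,
        up f' ⟨g f * x * (g f)⁻¹, (inferInstance : H.Normal).conj_mem x x.2 (g f)⟩ ^ n *
          δ ⟨g f * x * (g f)⁻¹, (inferInstance : H.Normal).conj_mem x x.2 (g f)⟩ = up f' x ^ n * δ x := by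
      intro x
      -- conjugation inside `H` does not change linear characters
      have h1 := hdet f' (⟨_, hh⟩⁻¹ * x * ⟨_, hh⟩)
      have h2 : (⟨g f' * ((⟨_, hh⟩⁻¹ * x * ⟨_, hh⟩ : H) : G) * (g f')⁻¹,
          (inferInstance : H.Normal).conj_mem _ (⟨_, hh⟩⁻¹ * x * ⟨_, hh⟩ : H).2 (g f')⟩ : H) =
          ⟨g f * x * (g f)⁻¹, (inferInstance : H.Normal).conj_mem x x.2 (g f)⟩ := Subtype.ext (by
        simp only [Subgroup.coe_mul, Subgroup.coe_inv]; group)
      rw [h2] at h1
      have h3 : ∀ l : H →* ℂˣ, l (⟨_, hh⟩⁻¹ * x * ⟨_, hh⟩) = l x := fun l => by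
        rw [map_mul, map_mul, map_inv, mul_comm, mul_inv_cancel_left]
      rw [h3, h3] at h1
      exact h1
    have hfix : ∀ x : H, (f / f') ⟨π (g f * x * (g f)⁻¹), (inferInstance : H.Normal).conj_mem x x.2 (g f)⟩ ^ n =
        (f / f') ⟨π x, x.2⟩ ^ n := fun x => by
      have h1 := hdet f x
      have h2 := hprop x
      simp only [hup] at h1 h2
      rw [MonoidHom.div_apply, MonoidHom.div_apply, div_pow, div_pow, div_eq_div_iff_mul_eq_mul]
      have key : ∀ a b c d u v : ℂˣ, a * u = c * v → b * u = d * v → a * d = c * b := by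
        intro a b c d u v e1 e2
        refine mul_right_cancel (b := u * v) ?_
        calc a * d * (u * v) = (a * u) * (d * v) := by ac_rfl
          _ = (c * v) * (b * u) := by rw [e1, e2]
          _ = _ := by ac_rfl
      exact key _ _ _ _ _ _ h1 h2
    by_contra hne
    refine hgH f (hsemi ((f / f') ^ n) (fun hd => hne ?_) (g f) fun x => by
      rw [MonoidHom.pow_apply, MonoidHom.pow_apply]
      exact hfix x)
    refine MonoidHom.ext fun e => div_eq_one.1 ?_
    have h1 : ((f / f') e) ^ n = 1 := DFunLike.congr_fun hd e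
    have h2 : ((f / f') e) ^ q = 1 := by
      rw [← map_pow, show e ^ q = 1 from Subtype.ext (hexp e e.2), map_one]
    rw [← MonoidHom.div_apply]
    exact orderOf_eq_one_iff.1 (Nat.eq_one_of_dvd_coprimes ((hq.coprime_iff_not_dvd.2 hψq).symm)
      (orderOf_dvd_of_pow_eq_one h1) (orderOf_dvd_of_pow_eq_one h2))
  letI : CommGroup (commutator (G ⧸ W)) :=
    { (inferInstance : Group (commutator (G ⧸ W))) with mul_comm := fun a b => Subtype.ext (hab a a.2 b b.2) }
  haveI : NeZero (Monoid.exponent (commutator (G ⧸ W))) := ⟨Monoid.exponent_ne_zero_of_finite⟩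
  have hcardX : Nat.card (commutator (G ⧸ W) →* ℂˣ) = Nat.card (commutator (G ⧸ W)) :=
    CommGroup.card_monoidHom_of_hasEnoughRootsOfUnity _ ℂ
  have hle := Nat.card_le_card_of_injective F hinj
  rw [hcardX, ← Subgroup.index_eq_card, hidx] at hle
  omega

end CfsgLib.ThreeDeg
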