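import Cfsg.Agent.Lib.ThreeDeg.Dichotomy
import Cfsg.Agent.Lib.TwoDeg.Derived
import Cfsg.Agent.S0168

/-!
# At most three degrees: solvability
-/

set_option autoImplicit false
set_option maxHeartbeats 1000000

open scoped ComplexConjugate Classical
open CfsgLib

namespace CfsgLib.ThreeDeg

universe u

variable {G : Type u} [Group G] [Finite G]

/-- Two degrees: the derived subgroup is abelian. -/
theorem two_degrees (m : ℕ)
    (h : ∀ χ : Cfsg.IrrCharacter G, Cfsg.charDegree (χ : G → ℂ) ≠ 1 → Cfsg.charDegree (χ : G → ℂ) = m) :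
    ∀ x ∈ commutator G, ∀ y ∈ commutator G, x * y = y * x := by
  by_cases hall : ∀ χ : Cfsg.IrrCharacter G, Cfsg.charDegree (χ : G → ℂ) = 1
  · exact fun x _ y _ => TwoDeg.comm_of_degree_one hall x y
  push Not at hall
  obtain ⟨χ, hχ⟩ := hall
  exact TwoDeg.comm_derived m (fun φ => (em _).imp id (h φ)) ⟨χ, h χ hχ⟩ fun hm => hχ ((h χ hχ).trans hm)

theorem classInner_mul_shift [Fintype G] (f g k : G → ℂ) :
    Cfsg.classInner (fun x => f x * g x) k =
      Cfsg.classInner (fun x => f x * conj (k x)) (fun x => conj (g x)) := by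
  unfold Cfsg.classInner
  congr 1
  refine Finset.sum_congr rfl fun x _ => ?_
  rw [Complex.conj_conj]
  ring

/-- Splitting a degree according to three possible values. -/
theorem degree_split [Fintype G] {a b : ℕ} (hab : a ≠ b) (ha : a ≠ 1) (hb : b ≠ 1)
    (hcd : ∀ χ : Cfsg.IrrCharacter G, Cfsg.charDegree (χ : G → ℂ) = 1 ∨ Cfsg.charDegree (χ : G → ℂ) = a ∨
      Cfsg.charDegree (χ : G → ℂ) = b)
    {F : G → ℂ} (hF : Cfsg.IsCharacter G F) :
    ∃ m : Cfsg.IrrCharacter G → ℕ, (∀ φ : Cfsg.IrrCharacter G, Cfsg.classInner F (φ : G → ℂ) = (m φ : ℂ)) ∧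
      Cfsg.charDegree F =
        (∑ φ ∈ Finset.univ.filter (fun φ : Cfsg.IrrCharacter G => Cfsg.charDegree (φ : G → ℂ) = 1), m φ) +
        a * (∑ φ ∈ Finset.univ.filter (fun φ : Cfsg.IrrCharacter G => Cfsg.charDegree (φ : G → ℂ) = a), m φ) +
        b * (∑ φ ∈ Finset.univ.filter (fun φ : Cfsg.IrrCharacter G => Cfsg.charDegree (φ : G → ℂ) = b), m φ) := by
  obtain ⟨m, hm, hdeg⟩ := CharTools.exists_degree_combination hF
  refine ⟨m, hm, hdeg.trans ?_⟩
  rw [Finset.sum_filter, Finset.sum_filter, Finset.sum_filter, Finset.mul_sum, Finset.mul_sum,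
    ← Finset.sum_add_distrib, ← Finset.sum_add_distrib]
  refine Finset.sum_congr rfl fun φ _ => ?_
  rcases hcd φ with h | h | h <;>
    simp [h, hab, hab.symm, ha, ha.symm, hb, hb.symm, mul_comm]

/-- Coprime degrees `a < b`: the derived subgroup, if minimal normal, is abelian. -/
theorem comm_of_minimal {a b : ℕ} (hab : a < b) (hcop : a.Coprime b) (ha1 : a ≠ 1) (hb1 : b ≠ 1)
    (hcd : ∀ χ : Cfsg.IrrCharacter G, Cfsg.charDegree (χ : G → ℂ) = 1 ∨ Cfsg.charDegree (χ : G → ℂ) = a ∨
      Cfsg.charDegree (χ : G → ℂ) = b)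
    (χ₀ : Cfsg.IrrCharacter G) (hχ₀ : Cfsg.charDegree (χ₀ : G → ℂ) = a)
    (hmin : ∀ L : Subgroup G, L.Normal → L ≤ commutator G → L ≠ ⊥ → L = commutator G) :
    ∀ x ∈ commutator G, ∀ y ∈ commutator G, x * y = y * x := by
  haveI := Fintype.ofFinite G
  by_contra hnc
  have ha0 : 0 < a := hχ₀ ▸ CharTools.irr_degree_pos χ₀
  have hN : ∀ χ : Cfsg.IrrCharacter G, Cfsg.charDegree (χ : G → ℂ) ≠ 1 →
      ∀ n ∈ commutator G, n ≠ 1 → (χ : G → ℂ) n ≠ (χ : G → ℂ) 1 := by
    intro χ hχ n hn hn1 he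
    obtain ⟨K, hKn, hK, -⟩ := CharTools.exists_kernel (CfsgLib.Char.IsIrrCharacter.isCharacter χ.2)
    haveI := hKn
    have h1 := hmin (K ⊓ commutator G) inferInstance inf_le_right fun h =>
      hn1 (Subgroup.mem_bot.1 (h ▸ (Subgroup.mem_inf.2 ⟨(hK n).2 he, hn⟩ : n ∈ K ⊓ commutator G)))
    exact hχ (DegBound.degree_one_of_kernel χ K (fun k hk => (hK k).1 hk) (inf_eq_right.1 h1))
  obtain ⟨n₀, hn₀, hn₀1⟩ := (Subgroup.bot_or_exists_ne_one (commutator G)).resolve_left fun h =>
    hnc fun x _ y _ => comm_of_commutator_le_bot h.le x y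
  -- products of two characters of degree `a` contain nothing of degree `b`
  have key : ∀ χ χ' ψ : Cfsg.IrrCharacter G, Cfsg.charDegree (χ : G → ℂ) = a →
      Cfsg.charDegree (χ' : G → ℂ) = a → Cfsg.charDegree (ψ : G → ℂ) = b →
      Cfsg.classInner (fun g => (χ : G → ℂ) g * (χ' : G → ℂ) g) (ψ : G → ℂ) = 0 := by
    intro χ χ' ψ hχ hχ' hψ
    by_contra hne
    rw [classInner_mul_shift] at hne
    have hψb : Cfsg.IsIrrCharacter G (fun g => conj ((ψ : G → ℂ) g)) := CharTwist.isIrrCharacter_conj ψ.2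
    have hF : Cfsg.IsCharacter G (fun g => (χ : G → ℂ) g * conj ((ψ : G → ℂ) g)) :=
      CfsgLib.Char.IsCharacter.mul (CfsgLib.Char.IsIrrCharacter.isCharacter χ.2)
        (CfsgLib.Char.IsIrrCharacter.isCharacter hψb)
    have hF1 : Cfsg.charDegree (fun g => (χ : G → ℂ) g * conj ((ψ : G → ℂ) g)) = a * b := by
      refine Nat.cast_injective (R := ℂ) ?_
      rw [CharTools.degree_cast hF, Nat.cast_mul, ← hχ, ← hψ, CharTools.irr_degree_cast,
        CharTools.irr_degree_cast, CharTools.conj_apply_one (CfsgLib.Char.IsIrrCharacter.isCharacter ψ.2)]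
    obtain ⟨m, hm, hdeg⟩ := degree_split hab.ne ha1 hb1 hcd hF
    -- linear characters do not occur
    have hlin : ∀ φ : Cfsg.IrrCharacter G, Cfsg.charDegree (φ : G → ℂ) = 1 → m φ = 0 := by
      intro φ hφ
      by_contra h0
      obtain ⟨l, hl⟩ := CfsgLib.Char.IsCharacter.exists_linear (CfsgLib.Char.IsIrrCharacter.isCharacter φ.2)
        (by rw [← CharTools.irr_degree_cast, hφ, Nat.cast_one])
      have h1 : Cfsg.classInner (χ : G → ℂ) (fun g => (l g : ℂ) * (ψ : G → ℂ) g) ≠ 0 := by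
        have h2 := hm φ
        rw [show Cfsg.classInner (fun g => (χ : G → ℂ) g * conj ((ψ : G → ℂ) g)) (φ : G → ℂ) =
            Cfsg.classInner (χ : G → ℂ) (fun g => (l g : ℂ) * (ψ : G → ℂ) g) by
          unfold Cfsg.classInner
          congr 1
          refine Finset.sum_congr rfl fun g _ => ?_
          rw [hl, map_mul]
          ring] at h2
        rw [h2]
        exact Nat.cast_ne_zero.2 h0
      have hirr := CfsgLib.Char.IsIrrCharacter.linear_mul ψ.2 l
      have h3 : (χ : G → ℂ) = fun g => (l g : ℂ) * (ψ : G → ℂ) g := by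
        by_contra h4
        exact h1 (CfsgLib.Char.classInner_irr_of_ne χ.2 hirr h4)
      have h5 : (Cfsg.charDegree (χ : G → ℂ) : ℂ) = (Cfsg.charDegree (ψ : G → ℂ) : ℂ) := by
        rw [CharTools.irr_degree_cast, CharTools.irr_degree_cast, congrFun h3 1, map_one, Units.val_one, one_mul]
      rw [Nat.cast_inj, hχ, hψ] at h5
      exact hab.ne h5
    rw [hF1, Finset.sum_eq_zero fun φ hφ => hlin φ (Finset.mem_filter.1 hφ).2, zero_add] at hdeg
    set S := ∑ φ ∈ Finset.univ.filter (fun φ : Cfsg.IrrCharacter G => Cfsg.charDegree (φ : G → ℂ) = a), m φ with hS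
    set T := ∑ φ ∈ Finset.univ.filter (fun φ : Cfsg.IrrCharacter G => Cfsg.charDegree (φ : G → ℂ) = b), m φ with hT
    have hSpos : 0 < S := by
      have hirr : Cfsg.IsIrrCharacter G (fun g => conj ((χ' : G → ℂ) g)) := CharTwist.isIrrCharacter_conj χ'.2
      refine Finset.sum_pos' (fun _ _ => Nat.zero_le _) ⟨⟨_, hirr⟩, Finset.mem_filter.2 ⟨Finset.mem_univ _, ?_⟩, ?_⟩
      · refine Nat.cast_injective (R := ℂ) ?_
        rw [CharTools.irr_degree_cast, ← hχ', CharTools.irr_degree_cast]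
        exact CharTools.conj_apply_one (CfsgLib.Char.IsIrrCharacter.isCharacter χ'.2)
      · have := hm ⟨_, hirr⟩
        refine Nat.pos_of_ne_zero fun h0 => hne ?_
        rw [this, h0, Nat.cast_zero]
    have hbS : b ∣ S := (hcop.symm).dvd_of_dvd_mul_left
      ((Nat.dvd_add_iff_left (dvd_mul_right b T)).2 (hdeg ▸ dvd_mul_left b a))
    have hT0 : T = 0 := by
      have h1 := Nat.mul_le_mul_left a (Nat.le_of_dvd hSpos hbS)
      have h2 : b * T = 0 := by omega
      exact (mul_eq_zero.1 h2).resolve_left (by omega)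
    have hSb : S = b := by
      rw [hT0, mul_zero, add_zero] at hdeg
      exact (Nat.eq_of_mul_eq_mul_left ha0 hdeg).symm
    -- every constituent agrees with `χ` on `G'`
    have hval : ∀ φ : Cfsg.IrrCharacter G, m φ ≠ 0 →
        Cfsg.charDegree (φ : G → ℂ) = a ∧ ∀ n ∈ commutator G, (φ : G → ℂ) n = (χ : G → ℂ) n := by
      intro φ hφ
      have hφa : Cfsg.charDegree (φ : G → ℂ) = a := by
        rcases hcd φ with h | h | h
        · exact absurd (hlin φ h) hφ
        · exact h
        · exact absurd (Finset.sum_eq_zero_iff.1 hT0 φ (Finset.mem_filter.2 ⟨Finset.mem_univ _, h⟩)) hφ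
      refine ⟨hφa, fun n hn => ?_⟩
      have hφb : Cfsg.IsIrrCharacter G (fun g => conj ((φ : G → ℂ) g)) := CharTwist.isIrrCharacter_conj φ.2
      have hP : Cfsg.IsCharacter G (fun g => (χ : G → ℂ) g * conj ((φ : G → ℂ) g)) :=
        CfsgLib.Char.IsCharacter.mul (CfsgLib.Char.IsIrrCharacter.isCharacter χ.2)
          (CfsgLib.Char.IsIrrCharacter.isCharacter hφb)
      have hP1 : Cfsg.charDegree (fun g => (χ : G → ℂ) g * conj ((φ : G → ℂ) g)) = a * a := by
        refine Nat.cast_injective (R := ℂ) ?_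
        rw [CharTools.degree_cast hP, Nat.cast_mul]
        conv_rhs => arg 1; rw [← hχ]
        conv_rhs => arg 2; rw [← hφa]
        rw [CharTools.irr_degree_cast, CharTools.irr_degree_cast,
          CharTools.conj_apply_one (CfsgLib.Char.IsIrrCharacter.isCharacter φ.2)]
      obtain ⟨m', hm', hdeg'⟩ := degree_split hab.ne ha1 hb1 hcd hP
      have hψpos : 0 < ∑ φ' ∈ Finset.univ.filter (fun φ' : Cfsg.IrrCharacter G => Cfsg.charDegree (φ' : G → ℂ) = b),
          m' φ' := by
        refine Finset.sum_pos' (fun _ _ => Nat.zero_le _) ⟨ψ, Finset.mem_filter.2 ⟨Finset.mem_univ _, hψ⟩, ?_⟩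
        refine Nat.pos_of_ne_zero fun h0 => hφ ?_
        have h1 := hm' ψ
        rw [classInner_mul_shift] at h1
        simp only [Complex.conj_conj] at h1
        rw [h0, hm φ, Nat.cast_inj] at h1
        exact h1
      rw [hP1] at hdeg'
      obtain ⟨ν, hν, hν0⟩ : ∃ ν : Cfsg.IrrCharacter G, Cfsg.charDegree (ν : G → ℂ) = 1 ∧ m' ν ≠ 0 := by
        by_contra hcon
        push Not at hcon
        rw [Finset.sum_eq_zero fun ν hν => hcon ν (Finset.mem_filter.1 hν).2, zero_add] at hdeg'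
        have h1 : a ∣ ∑ φ' ∈ Finset.univ.filter (fun φ' : Cfsg.IrrCharacter G => Cfsg.charDegree (φ' : G → ℂ) = b),
            m' φ' := hcop.dvd_of_dvd_mul_left
          ((Nat.dvd_add_iff_right (dvd_mul_right a _)).2 (hdeg' ▸ dvd_mul_left a a))
        have h2 := Nat.mul_le_mul_left b (Nat.le_of_dvd hψpos h1)
        have h3 : a * a < b * a := Nat.mul_lt_mul_of_pos_right hab ha0
        omega
      obtain ⟨l, hl⟩ := CfsgLib.Char.IsCharacter.exists_linear (CfsgLib.Char.IsIrrCharacter.isCharacter ν.2)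
        (by rw [← CharTools.irr_degree_cast, hν, Nat.cast_one])
      have hirr := CfsgLib.Char.IsIrrCharacter.linear_mul φ.2 l
      have h3 : (χ : G → ℂ) = fun g => (l g : ℂ) * (φ : G → ℂ) g := by
        by_contra h4
        refine hν0 (Nat.cast_injective (R := ℂ) ?_)
        rw [← hm' ν, Nat.cast_zero, ← CfsgLib.Char.classInner_irr_of_ne χ.2 hirr h4]
        unfold Cfsg.classInner
        congr 1
        refine Finset.sum_congr rfl fun g _ => ?_
        rw [hl, map_mul]
        ring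
      rw [congrFun h3 n, MonoidHom.mem_ker.1 (Abelianization.commutator_subset_ker l hn), Units.val_one, one_mul]
    -- so `χ` vanishes on `G'` away from the identity
    have hvan : ∀ n ∈ commutator G, n ≠ 1 → (χ : G → ℂ) n = 0 := by
      intro n hn hn1
      have h1 := congrFun (CfsgLib.Char.IsCharacter.eq_sum_classInner hF) n
      simp only [Finset.sum_apply, Pi.smul_apply, smul_eq_mul, hm] at h1
      have h2 : ∀ φ : Cfsg.IrrCharacter G, (m φ : ℂ) * (φ : G → ℂ) n =
          ((if Cfsg.charDegree (φ : G → ℂ) = a then m φ else 0 : ℕ) : ℂ) * (χ : G → ℂ) n := fun φ => by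
        by_cases h0 : m φ = 0
        · simp [h0]
        · rw [if_pos (hval φ h0).1, (hval φ h0).2 n hn]
      rw [Finset.sum_congr rfl (fun φ _ => h2 φ), ← Finset.sum_mul, ← Nat.cast_sum, ← Finset.sum_filter,
        ← hS, hSb, mul_comm] at h1
      by_contra h0
      have h3 := mul_right_cancel₀ h0 h1
      refine hN ψ (hψ ▸ hb1) n hn hn1 ?_
      rw [← CharTools.conj_apply_one (CfsgLib.Char.IsIrrCharacter.isCharacter ψ.2), ← CharTools.irr_degree_cast,
        hψ, map_natCast, ← Complex.conj_conj ((ψ : G → ℂ) n), h3, map_natCast]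
    haveI := Fintype.ofFinite (commutator G)
    have hinner : Cfsg.classInner (fun n : commutator G => (χ : G → ℂ) n) (fun _ => (1 : ℂ)) ≠ 0 := by
      unfold Cfsg.classInner
      rw [Finset.sum_eq_single (1 : commutator G) (fun n _ hn => by
        show (χ : G → ℂ) n * _ = 0
        rw [hvan n n.2 (fun h => hn (Subtype.ext h)), zero_mul]) (by simp)]
      simp [CharTools.irr_apply_one_ne_zero χ]
    obtain ⟨e, he, hres⟩ := CharDeep.Cliff.res_eq_smul (commutator G) χ.2
      (CfsgLib.Char.isIrrCharacter_principal (G := commutator G)) (fun g => rfl) hinner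
    have h1 := congrFun hres ⟨n₀, hn₀⟩
    simp only [Pi.smul_apply, smul_eq_mul, mul_one] at h1
    rw [hvan n₀ hn₀ hn₀1, eq_comm, Nat.cast_eq_zero] at h1
    omega
  -- powers of `χ₀`
  have hpow : ∀ i : ℕ, ∀ ψ : Cfsg.IrrCharacter G, Cfsg.charDegree (ψ : G → ℂ) = b →
      Cfsg.classInner (fun g => (χ₀ : G → ℂ) g ^ i) (ψ : G → ℂ) = 0 := by
    intro i
    induction i with
    | zero =>
      intro ψ hψ
      simp only [pow_zero]
      refine CfsgLib.Char.classInner_irr_of_ne CfsgLib.Char.isIrrCharacter_principal ψ.2 fun h => ?_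
      rw [← h, CharTools.charDegree_principal] at hψ
      exact hb1 hψ.symm
    | succ i ih =>
      intro ψ hψ
      have hc : Cfsg.IsCharacter G (fun g => (χ₀ : G → ℂ) g ^ i) :=
        CfsgLib.Char.IsCharacter.pow (CfsgLib.Char.IsIrrCharacter.isCharacter χ₀.2) i
      have hdec := CfsgLib.Char.IsCharacter.eq_sum_classInner hc
      have e : (fun g => (χ₀ : G → ℂ) g ^ (i + 1)) = ∑ φ : Cfsg.IrrCharacter G,
          Cfsg.classInner (fun g => (χ₀ : G → ℂ) g ^ i) (φ : G → ℂ) •
            (fun g => (χ₀ : G → ℂ) g * (φ : G → ℂ) g) := by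
        funext g
        have h := congrFun hdec g
        simp only [Finset.sum_apply, Pi.smul_apply, smul_eq_mul] at h ⊢
        rw [pow_succ', h, Finset.mul_sum]
        exact Finset.sum_congr rfl fun φ _ => by ring
      rw [e, CfsgLib.Char.classInner_sum_left]
      refine Finset.sum_eq_zero fun φ _ => ?_
      rw [CfsgLib.Char.classInner_smul_left]
      rcases hcd φ with h | h | h
      · obtain ⟨l, hl⟩ := CfsgLib.Char.IsCharacter.exists_linear (CfsgLib.Char.IsIrrCharacter.isCharacter φ.2)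
          (by rw [← CharTools.irr_degree_cast, h, Nat.cast_one])
        have hirr := CfsgLib.Char.IsIrrCharacter.linear_mul χ₀.2 l
        rw [show (fun g => (χ₀ : G → ℂ) g * (φ : G → ℂ) g) = fun g => (l g : ℂ) * (χ₀ : G → ℂ) g from
          funext fun g => by rw [hl, mul_comm]]
        rw [CfsgLib.Char.classInner_irr_of_ne hirr ψ.2 (fun he => ?_), mul_zero]
        have h5 : (Cfsg.charDegree (ψ : G → ℂ) : ℂ) = (Cfsg.charDegree (χ₀ : G → ℂ) : ℂ) := by
          rw [CharTools.irr_degree_cast, CharTools.irr_degree_cast, ← congrFun he 1, map_one, Units.val_one,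
            one_mul]
        rw [Nat.cast_inj, hψ, hχ₀] at h5
        exact hab.ne h5.symm
      · rw [key χ₀ φ ψ hχ₀ h hψ, mul_zero]
      · rw [ih φ h, zero_mul]
  -- the quotient by the kernel has two degrees
  obtain ⟨K, hKn, hK, -⟩ := CharTools.exists_kernel (CfsgLib.Char.IsIrrCharacter.isCharacter χ₀.2)
  haveI := hKn
  obtain ⟨η, hη⟩ := CharTools.exists_descend K χ₀.2 (fun k hk => (hK k).1 hk)
  obtain ⟨d, ρ, hρ, hρη⟩ := η.2
  haveI := Fintype.ofFinite (G ⧸ K)
  have hfaith : Function.Injective ρ := by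
    intro x y hxy
    obtain ⟨x, rfl⟩ := QuotientGroup.mk_surjective x
    obtain ⟨y, rfl⟩ := QuotientGroup.mk_surjective y
    refine QuotientGroup.eq.2 ((hK _).2 ?_)
    rw [← hη, ← hη, ← hρη]
    simp only [Representation.character, QuotientGroup.mk_mul, QuotientGroup.mk_inv, map_mul, ← hxy,
      QuotientGroup.mk_one]
    rw [← map_mul, inv_mul_cancel]
  have htwo : ∀ ζ : Cfsg.IrrCharacter (G ⧸ K), Cfsg.charDegree (ζ : G ⧸ K → ℂ) ≠ 1 →
      Cfsg.charDegree (ζ : G ⧸ K → ℂ) = a := by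
    intro ζ hζ
    have hirr := CharTools.isIrrCharacter_comp (QuotientGroup.mk' K) (QuotientGroup.mk'_surjective K) ζ.2
    rcases hcd ⟨_, hirr⟩ with h | h | h
    · exact absurd ((DegBound.inflate_deg _ _).symm.trans h) hζ
    · exact (DegBound.inflate_deg _ _).symm.trans h
    · obtain ⟨i, -, hi⟩ := Cfsg.Agent.S0168.result ρ hfaith _ ζ.2
      refine absurd ?_ hi
      rw [← CharTools.classInner_comp_surjective (QuotientGroup.mk' K) (QuotientGroup.mk'_surjective K), hρη]
      have := hpow i ⟨_, hirr⟩ h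
      simp only [← hη] at this
      exact this
  refine hnc fun x hx y hy => ?_
  have hKN : K ⊓ commutator G = ⊥ := by
    by_contra h
    exact ha1 (hχ₀.symm.trans (DegBound.degree_one_of_kernel χ₀ K (fun k hk => (hK k).1 hk)
      (inf_eq_right.1 (hmin _ inferInstance inf_le_right h))))
  have hm : ∀ z ∈ commutator G, QuotientGroup.mk' K z ∈ commutator (G ⧸ K) := fun z hz => by
    rw [commutator_def, ← Subgroup.map_top_of_surjective _ (QuotientGroup.mk'_surjective K),
      ← Subgroup.map_commutator, ← commutator_def]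
    exact Subgroup.mem_map_of_mem _ hz
  have hxy := two_degrees a htwo _ (hm x hx) _ (hm y hy)
  rw [← map_mul, ← map_mul, QuotientGroup.mk'_apply, QuotientGroup.mk'_apply, QuotientGroup.eq] at hxy
  have h1 : (x * y)⁻¹ * (y * x) ∈ K ⊓ commutator G := Subgroup.mem_inf.2
    ⟨hxy, mul_mem (inv_mem (mul_mem hx hy)) (mul_mem hy hx)⟩
  rw [hKN, Subgroup.mem_bot, inv_mul_eq_one] at h1
  exact h1

theorem isSolvable_of_normal (M : Subgroup G) [M.Normal] (hM : Group.IsSolvable M)
    (hQ : Group.IsSolvable (G ⧸ M)) : Group.IsSolvable G :=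
  (Group.isSolvable_iff_subgroup_quotient M).2 ⟨hM, hQ⟩

/-- **Isaacs 12.15, first part.** -/
theorem isSolvable_of_three (n : ℕ) : ∀ (G : Type u) [Group G] [Finite G], Nat.card G ≤ n → ∀ a b : ℕ,
    (∀ χ : Cfsg.IrrCharacter G, Cfsg.charDegree (χ : G → ℂ) = 1 ∨ Cfsg.charDegree (χ : G → ℂ) = a ∨
      Cfsg.charDegree (χ : G → ℂ) = b) → Group.IsSolvable G := by
  induction n with
  | zero => intro G _ _ h; exact absurd h (not_le.2 Nat.card_pos)
  | succ n ih =>
    intro G _ _ hn a b hcd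
    haveI := Fintype.ofFinite G
    have hsub : ∀ M : Subgroup G, M ≠ ⊤ → Nat.card M ≤ n := fun M hM => by
      have h1 : Nat.card M < Nat.card G := lt_of_le_of_ne (Subgroup.card_le_card_group M)
        fun h => hM (Subgroup.eq_top_of_card_eq M h)
      omega
    by_cases hall : ∀ χ : Cfsg.IrrCharacter G, Cfsg.charDegree (χ : G → ℂ) = 1
    · exact Group.isSolvable_of_comm (TwoDeg.comm_of_degree_one hall)
    push Not at hall
    obtain ⟨χ₁, hχ₁⟩ := hall
    by_cases hp : ∃ p : ℕ, p.Prime ∧ ∀ χ : Cfsg.IrrCharacter G, Cfsg.charDegree (χ : G → ℂ) ≠ 1 →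
        p ∣ Cfsg.charDegree (χ : G → ℂ)
    · obtain ⟨p, hp, hdeg⟩ := hp
      obtain ⟨M, hMn, hcop, ⟨k, hk⟩, hM⟩ := exists_complement hp hdeg
      haveI := hMn
      haveI : Fact p.Prime := ⟨hp⟩
      have hMtop : M ≠ ⊤ := fun h => by
        rw [h, Subgroup.card_top] at hcop
        exact hp.ne_one (Nat.eq_one_of_dvd_coprimes hcop ((hdeg χ₁ hχ₁).trans (CharTools.degree_dvd_card χ₁)) dvd_rfl)
      haveI hsQ : Group.IsNilpotent (G ⧸ M) :=
        (IsPGroup.of_card (n := k) (by rw [← Subgroup.index_eq_card, hk])).isNilpotent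
      refine isSolvable_of_normal M (ih M (hsub M hMtop) (ordCompl[p] a) (ordCompl[p] b) fun θ => ?_)
        inferInstance
      obtain ⟨hθp, χ, i, hχ⟩ := hM θ
      have hθ : Cfsg.charDegree (θ : M → ℂ) = ordCompl[p] (Cfsg.charDegree (χ : G → ℂ)) := by
        rw [hχ, Nat.ordCompl_mul, Nat.ordCompl_self_pow hp, mul_one,
          Nat.factorization_eq_zero_of_not_dvd hθp, pow_zero, Nat.div_one]
      rcases hcd χ with h | h | h <;> rw [h] at hθ
      · exact Or.inl (hθ.trans (by simp))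
      · exact Or.inr (Or.inl hθ)
      · exact Or.inr (Or.inr hθ)
    push Not at hp
    -- both degrees occur and are coprime
    have hocc : ∀ a b : ℕ, (∀ χ : Cfsg.IrrCharacter G, Cfsg.charDegree (χ : G → ℂ) = 1 ∨
        Cfsg.charDegree (χ : G → ℂ) = a ∨ Cfsg.charDegree (χ : G → ℂ) = b) →
        a ≠ 1 ∧ ∃ χ : Cfsg.IrrCharacter G, Cfsg.charDegree (χ : G → ℂ) = a := by
      intro a b hcd
      by_contra hc
      have hb : ∀ χ : Cfsg.IrrCharacter G, Cfsg.charDegree (χ : G → ℂ) ≠ 1 →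
          Cfsg.charDegree (χ : G → ℂ) = b := by
        intro χ hχ
        rcases hcd χ with h | h | h
        · exact absurd h hχ
        · exact absurd ⟨fun ha => hχ (h.trans ha), χ, h⟩ hc
        · exact h
      have hb1 : b ≠ 1 := fun h => hχ₁ ((hb χ₁ hχ₁).trans h)
      obtain ⟨r, hr, hrb⟩ := Nat.exists_prime_and_dvd hb1
      obtain ⟨χ, hχ, hn⟩ := hp r hr
      exact hn (hb χ hχ ▸ hrb)
    obtain ⟨ha1, χa, hχa⟩ := hocc a b hcd
    obtain ⟨hb1, χb, hχb⟩ := hocc b a fun χ => (hcd χ).imp id Or.symm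
    have hcop : a.Coprime b := by
      refine Nat.coprime_of_dvd fun r hr hra hrb => ?_
      obtain ⟨χ, hχ, hn⟩ := hp r hr
      rcases hcd χ with h | h | h
      · exact hχ h
      · exact hn (h ▸ hra)
      · exact hn (h ▸ hrb)
    have hab : a ≠ b := fun h => ha1 (Nat.coprime_self a |>.1 (h ▸ hcop))
    haveI : Nontrivial G := by
      by_contra hnt
      rw [not_nontrivial_iff_subsingleton] at hnt
      exact hχ₁ (Nat.dvd_one.1 (Nat.card_of_subsingleton (1 : G) ▸ CharTools.degree_dvd_card χ₁))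
    obtain ⟨N, ⟨hNn, hNb⟩, hNmin⟩ := (Set.toFinite {K : Subgroup G | K.Normal ∧ K ≠ ⊥}).exists_minimal
      ⟨⊤, inferInstance, top_ne_bot⟩
    haveI := hNn
    have hNmin' : ∀ K : Subgroup G, K.Normal → K ≤ N → K ≠ ⊥ → K = N := fun K h1 h2 h3 =>
      le_antisymm h2 (hNmin ⟨h1, h3⟩ h2)
    have hQ : Group.IsSolvable (G ⧸ N) := by
      refine ih _ ?_ a b fun η => ?_
      · have h1 := Subgroup.card_eq_card_quotient_mul_card_subgroup N
        have h2 : 2 ≤ Nat.card N := by
          haveI := (Subgroup.nontrivial_iff_ne_bot N).2 hNb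
          exact Finite.one_lt_card
        have h3 := Nat.mul_le_mul_left (Nat.card (G ⧸ N)) h2
        have h4 : 0 < Nat.card (G ⧸ N) := Nat.card_pos
        omega
      · obtain ⟨χ, hχ⟩ := degree_quotient N η
        exact hχ ▸ hcd χ
    by_cases hGN : commutator G ≤ N
    · refine isSolvable_of_normal N (Group.isSolvable_of_comm fun x y => Subtype.ext ?_) hQ
      by_cases hcb : commutator G = ⊥
      · exact comm_of_commutator_le_bot hcb.le _ _
      have hNG : commutator G = N := hNmin' _ inferInstance hGN hcb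
      rcases lt_or_gt_of_ne hab with h | h
      · exact comm_of_minimal h hcop ha1 hb1 hcd χa hχa (fun L h1 h2 h3 => hNG ▸ hNmin' L h1 (hNG ▸ h2) h3)
          x (hNG ▸ x.2) y (hNG ▸ y.2)
      · exact comm_of_minimal h hcop.symm hb1 ha1 (fun χ => (hcd χ).imp id Or.symm) χb hχb
          (fun L h1 h2 h3 => hNG ▸ hNmin' L h1 (hNG ▸ h2) h3) x (hNG ▸ x.2) y (hNG ▸ y.2)
    rcases dichotomy N hQ hGN with ⟨p, hp', W, hWn, hW, k, hk⟩ | ⟨H, q, hHn, hq, hGH, hf1, hqf, ⟨χf, hχf⟩, hH⟩
    · -- a nonabelian `p`-quotient is impossible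
      exfalso
      haveI := hWn
      obtain ⟨φ, hφ1, hφW, hφdvd⟩ := exists_nonlinear_quotient W hW
      obtain ⟨i, -, hi⟩ := (Nat.dvd_prime_pow hp').1 (hk ▸ hφdvd)
      have hpφ : p ∣ Cfsg.charDegree (φ : G → ℂ) := hi ▸ dvd_pow_self p fun h0 => hφ1 (by rw [hi, h0, pow_zero])
      obtain ⟨χ, hχ, hn⟩ := hp p hp'
      have hirr := restrict_of_coprime W χ (hk ▸ ((hp'.coprime_iff_not_dvd.2 hn).symm.pow_right k))
      have hprod := DegBound.irr_mul_of_restrict W χ φ hirr hφW
      have h1 := degree_mul hprod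
      have hχpos := CharTools.irr_degree_pos χ
      have hφpos := CharTools.irr_degree_pos φ
      have hne : Cfsg.charDegree (χ : G → ℂ) ≠ Cfsg.charDegree (φ : G → ℂ) := fun h => hn (h ▸ hpφ)
      have h2 := hcd ⟨_, hprod⟩
      simp only [h1] at h2
      have hlt1 : Cfsg.charDegree (χ : G → ℂ) < Cfsg.charDegree (χ : G → ℂ) * Cfsg.charDegree (φ : G → ℂ) :=
        lt_mul_of_one_lt_right hχpos (by omega)
      have hlt2 : Cfsg.charDegree (φ : G → ℂ) < Cfsg.charDegree (χ : G → ℂ) * Cfsg.charDegree (φ : G → ℂ) :=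
        lt_mul_of_one_lt_left hφpos (by omega)
      rcases hcd χ with e1 | e1 | e1 <;> rcases hcd φ with e2 | e2 | e2 <;> omega
    · haveI := hHn
      have hHtop : H ≠ ⊤ := fun h => hf1 (by rw [h, Subgroup.index_top])
      -- the other degree
      obtain ⟨c, hc, hfc⟩ : ∃ c, (∀ χ : Cfsg.IrrCharacter G, Cfsg.charDegree (χ : G → ℂ) = 1 ∨
          Cfsg.charDegree (χ : G → ℂ) = H.index ∨ Cfsg.charDegree (χ : G → ℂ) = c) ∧ H.index.Coprime c := by
        rcases hcd χf with h | h | h <;> rw [hχf] at h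
        · exact absurd h hf1
        · exact ⟨b, h ▸ hcd, h ▸ hcop⟩
        · exact ⟨a, fun χ => (hcd χ).imp id fun h' => h ▸ h'.symm, h ▸ hcop.symm⟩
      refine isSolvable_of_normal H (ih H (hsub H hHtop) c c fun ψ => ?_)
        (Group.isSolvable_of_comm ((commutator_le_iff (G := G) H).1 hGH))
      by_cases hψ1 : Cfsg.charDegree (ψ : H → ℂ) = 1
      · exact Or.inl hψ1
      refine Or.inr (Or.inl ?_)
      obtain ⟨χ, k, hχ, hk⟩ := exists_over_ratio H ψ
      by_cases hqψ : q ∣ Cfsg.charDegree (ψ : H → ℂ)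
      · rcases hc χ with h | h | h <;> rw [hχ] at h
        · exact absurd (Nat.eq_one_of_mul_eq_one_right h) hψ1
        · exact absurd (hqψ.trans (Dvd.intro _ h)) hqf
        · have : k = 1 := Nat.eq_one_of_dvd_coprimes hfc hk (Dvd.intro_left _ h)
          rwa [this, mul_one] at h
      · obtain ⟨χ', hχ'⟩ := hH ψ hqψ
        rcases hc χ' with h | h | h <;> rw [hχ'] at h
        · exact absurd (Nat.eq_one_of_mul_eq_one_left h) hψ1
        · refine absurd (Nat.eq_of_mul_eq_mul_left (n := H.index) (Nat.pos_of_ne_zero Subgroup.index_ne_zero_of_finite) ?_) hψ1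
          rw [h, mul_one]
        · exact absurd (Nat.eq_one_of_dvd_coprimes hfc dvd_rfl (Dvd.intro _ h)) hf1

end CfsgLib.ThreeDeg
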