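import Cfsg.Agent.Lib.DegBound.Main
import Cfsg.Agent.Lib.CharDeep.Extend
import Cfsg.Agent.S0887
import Cfsg.Agent.S4456

/-!
# Degrees over a normal subgroup
-/

set_option autoImplicit false

open scoped Classical
open CfsgLib

namespace CfsgLib.ThreeDeg

universe u

variable {G : Type u} [Group G] [Finite G]

/-- The degree ratio of a character over a constituent divides the index. -/
theorem over_ratio (N : Subgroup G) [N.Normal] [Fintype N] (χ : Cfsg.IrrCharacter G) (θ : Cfsg.IrrCharacter N)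
    (h : Cfsg.classInner (fun n : N => (χ : G → ℂ) n) (θ : N → ℂ) ≠ 0) :
    ∃ k, Cfsg.charDegree (χ : G → ℂ) = Cfsg.charDegree (θ : N → ℂ) * k ∧ k ∣ N.index := by
  haveI := Fintype.ofFinite G
  obtain ⟨h1, h2⟩ := Cfsg.Agent.S0887.result N _ χ.2 _ θ.2 h _ _
    (CharTools.irr_degree_cast χ).symm (CharTools.irr_degree_cast θ).symm
  exact ⟨_, (Nat.mul_div_cancel' h1).symm, h2⟩

theorem exists_over_ratio (N : Subgroup G) [N.Normal] (θ : Cfsg.IrrCharacter N) :
    ∃ (χ : Cfsg.IrrCharacter G) (k : ℕ),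
      Cfsg.charDegree (χ : G → ℂ) = Cfsg.charDegree (θ : N → ℂ) * k ∧ k ∣ N.index := by
  haveI := Fintype.ofFinite N
  haveI := Fintype.ofFinite G
  obtain ⟨χ, hχ⟩ := Blk83.exists_over N θ
  exact ⟨χ, over_ratio N χ θ hχ⟩

/-- A character of degree prime to the index restricts irreducibly. -/
theorem restrict_of_coprime (N : Subgroup G) [N.Normal] (χ : Cfsg.IrrCharacter G)
    (h : (Cfsg.charDegree (χ : G → ℂ)).Coprime N.index) :
    Cfsg.IsIrrCharacter N (fun n : N => (χ : G → ℂ) n) := by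
  haveI := Fintype.ofFinite N
  obtain ⟨θ, hθ⟩ := CharTools.exists_constituent
    (CfsgLib.Char.IsCharacter.restrict (CfsgLib.Char.IsIrrCharacter.isCharacter χ.2) N)
    (fun h0 => CharTools.irr_apply_one_ne_zero χ (congrFun h0 (1 : N)))
  obtain ⟨k, hk, hkN⟩ := over_ratio N χ θ hθ
  have hk1 : k = 1 := Nat.eq_one_of_dvd_coprimes h (hk ▸ dvd_mul_left _ _) hkN
  rw [CharTools.eq_of_constituent_of_degree_le
    (CfsgLib.Char.IsCharacter.restrict (CfsgLib.Char.IsIrrCharacter.isCharacter χ.2) N) θ hθ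
    (by rw [DegBound.charDegree_res, hk, hk1, mul_one])]
  exact θ.2

/-- The normal complement of a prime dividing all nonlinear degrees. -/
theorem exists_complement {p : ℕ} (hp : p.Prime)
    (hdeg : ∀ χ : Cfsg.IrrCharacter G, Cfsg.charDegree (χ : G → ℂ) ≠ 1 → p ∣ Cfsg.charDegree (χ : G → ℂ)) :
    ∃ M : Subgroup G, M.Normal ∧ (Nat.card M).Coprime p ∧ (∃ k, M.index = p ^ k) ∧
      ∀ θ : Cfsg.IrrCharacter M, ¬ p ∣ Cfsg.charDegree (θ : M → ℂ) ∧
        ∃ (χ : Cfsg.IrrCharacter G) (i : ℕ),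
          Cfsg.charDegree (χ : G → ℂ) = Cfsg.charDegree (θ : M → ℂ) * p ^ i := by
  obtain ⟨M, hM, hcop, k, hk⟩ := Cfsg.Agent.S4456.result p hp hdeg
  haveI := hM
  refine ⟨M, hM, hcop, ⟨k, hk⟩, fun θ => ⟨fun h => ?_, ?_⟩⟩
  · exact hp.ne_one (Nat.eq_one_of_dvd_coprimes hcop (h.trans (CharTools.degree_dvd_card θ)) dvd_rfl)
  · obtain ⟨χ, j, h1, h2⟩ := exists_over_ratio M θ
    obtain ⟨i, -, hi⟩ := (Nat.dvd_prime_pow hp).1 (hk ▸ h2)
    exact ⟨χ, i, hi ▸ h1⟩

theorem degree_mul {χ φ : Cfsg.IrrCharacter G}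
    (h : Cfsg.IsIrrCharacter G (fun g => (χ : G → ℂ) g * (φ : G → ℂ) g)) :
    Cfsg.charDegree (fun g => (χ : G → ℂ) g * (φ : G → ℂ) g) =
      Cfsg.charDegree (χ : G → ℂ) * Cfsg.charDegree (φ : G → ℂ) := by
  refine Nat.cast_injective (R := ℂ) ?_
  rw [CharTools.irr_degree_cast ⟨_, h⟩, Nat.cast_mul, CharTools.irr_degree_cast, CharTools.irr_degree_cast]

theorem comm_of_commutator_le_bot (h : commutator G ≤ ⊥) (a b : G) : a * b = b * a := by
  have h1 := Subgroup.commutator_mem_commutator (Subgroup.mem_top a) (Subgroup.mem_top b)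
  rw [← commutator_def] at h1
  exact commutatorElement_eq_one_iff_mul_comm.1 (Subgroup.mem_bot.1 (h h1))

theorem commutator_le_iff (N : Subgroup G) [N.Normal] :
    commutator G ≤ N ↔ ∀ a b : G ⧸ N, a * b = b * a := by
  constructor
  · intro h a b
    obtain ⟨x, rfl⟩ := QuotientGroup.mk'_surjective N a
    obtain ⟨y, rfl⟩ := QuotientGroup.mk'_surjective N b
    have h1 := Subgroup.commutator_mem_commutator (Subgroup.mem_top x) (Subgroup.mem_top y)
    rw [← commutator_def] at h1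
    have h2 := (QuotientGroup.eq_one_iff _).2 (h h1)
    rw [← QuotientGroup.mk'_apply] at h2
    rw [map_commutatorElement] at h2
    exact commutatorElement_eq_one_iff_mul_comm.1 h2
  · intro h
    rw [commutator_def, Subgroup.commutator_le]
    intro x _ y _
    rw [← QuotientGroup.eq_one_iff, ← QuotientGroup.mk'_apply, map_commutatorElement]
    exact commutatorElement_eq_one_iff_mul_comm.2 (h _ _)

/-- A nonabelian quotient has a nonlinear character. -/
theorem exists_nonlinear_quotient (W : Subgroup G) [W.Normal] (hW : ¬ commutator G ≤ W) :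
    ∃ φ : Cfsg.IrrCharacter G, Cfsg.charDegree (φ : G → ℂ) ≠ 1 ∧
      (∀ w ∈ W, (φ : G → ℂ) w = (φ : G → ℂ) 1) ∧ Cfsg.charDegree (φ : G → ℂ) ∣ W.index := by
  by_contra hcon
  push Not at hcon
  refine hW ((commutator_le_iff W).2 fun a b => TwoDeg.comm_of_degree_one (fun η => ?_) a b)
  by_contra h1
  refine hcon ⟨_, CharTools.isIrrCharacter_comp (QuotientGroup.mk' W) (QuotientGroup.mk'_surjective W) η.2⟩
    ?_ (fun w hw => ?_) ?_
  · simp only [DegBound.inflate_deg]
    exact h1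
  · show (η : G ⧸ W → ℂ) (QuotientGroup.mk' W w) = (η : G ⧸ W → ℂ) (QuotientGroup.mk' W 1)
    rw [show QuotientGroup.mk' W w = 1 from (QuotientGroup.eq_one_iff w).2 hw, map_one]
  · simp only [DegBound.inflate_deg]
    exact (CharTools.degree_dvd_card η).trans (dvd_of_eq rfl)

/-- Degrees of a quotient are degrees of the group. -/
theorem degree_quotient (N : Subgroup G) [N.Normal] (η : Cfsg.IrrCharacter (G ⧸ N)) :
    ∃ χ : Cfsg.IrrCharacter G, Cfsg.charDegree (χ : G → ℂ) = Cfsg.charDegree (η : G ⧸ N → ℂ) :=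
  ⟨⟨_, CharTools.isIrrCharacter_comp (QuotientGroup.mk' N) (QuotientGroup.mk'_surjective N) η.2⟩,
    DegBound.inflate_deg _ _⟩

end CfsgLib.ThreeDeg
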